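import Mathlib.Topology.KrullDimension
import Mathlib.Topology.NoetherianSpace
import Mathlib.Topology.Sober
import Mathlib.Topology.Constructible

/-!
Topology of one-dimensional irreducible spaces.
-/

set_option autoImplicit false
universe u

namespace Groth.Agent.H29Curve

open TopologicalSpace Order

variable {X : Type u} [TopologicalSpace X]

theorem isClosed_singleton_or_eq_genericPoint [QuasiSober X] [IrreducibleSpace X] [T0Space X]
    (hX : topologicalKrullDim X ≤ 1) (x : X) :
    IsClosed ({x} : Set X) ∨ x = genericPoint X := by
  by_contra h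
  push Not at h
  obtain ⟨hnc, hne⟩ := h
  have hss : ∃ y ∈ closure ({x} : Set X), y ≠ x := by
    by_contra h'
    push Not at h'
    exact hnc (isClosed_of_closure_subset fun y hy => h' y hy)
  obtain ⟨y, hy, hyx⟩ := hss
  let a : IrreducibleCloseds X := ⟨closure {y}, isIrreducible_singleton.closure, isClosed_closure⟩
  let b : IrreducibleCloseds X := ⟨closure {x}, isIrreducible_singleton.closure, isClosed_closure⟩
  let c : IrreducibleCloseds X := ⟨Set.univ, IrreducibleSpace.isIrreducible_univ X, isClosed_univ⟩
  have hab : a < b := by
    refine lt_of_le_of_ne (show closure ({y} : Set X) ⊆ closure {x} from closure_minimal (by simpa using hy) isClosed_closure) fun e => hyx ?_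
    have e' : closure ({y} : Set X) = closure {x} := congrArg (fun z : IrreducibleCloseds X => (z : Set X)) e
    exact (inseparable_iff_closure_eq.mpr e').eq
  have hbc : b < c := by
    refine lt_of_le_of_ne (Set.subset_univ (closure ({x} : Set X))) fun e => hne ?_
    have e' : closure ({x} : Set X) = Set.univ := congrArg (fun z : IrreducibleCloseds X => (z : Set X)) e
    exact (show IsGenericPoint x Set.univ from e').eq (genericPoint_spec X)
  let s : LTSeries (IrreducibleCloseds X) := RelSeries.singleton _ a |>.snoc b (by simpa using hab) |>.snoc c (by simpa using hbc)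
  have := (LTSeries.length_le_krullDim s).trans hX
  simp [s] at this

theorem finite_of_isClosed_of_genericPoint_notMem [QuasiSober X] [IrreducibleSpace X] [T0Space X]
    [NoetherianSpace X]
    (hX : topologicalKrullDim X ≤ 1) {Z : Set X} (hZ : IsClosed Z) (hη : genericPoint X ∉ Z) :
    Z.Finite := by
  obtain ⟨S, hSf, hScl, hSirr, hS⟩ := NoetherianSpace.exists_finite_set_isClosed_irreducible hZ
  rw [hS]
  refine hSf.sUnion fun T hT => ?_
  have hT' : T ⊆ Z := hS ▸ Set.subset_sUnion_of_mem hT
  have hgen := (hSirr T hT).isGenericPoint_genericPoint (hScl T hT)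
  rcases isClosed_singleton_or_eq_genericPoint hX (hSirr T hT).genericPoint with h | h
  · rw [← hgen.def, h.closure_eq]
    exact Set.finite_singleton _
  · exact absurd (h ▸ hT' hgen.mem) hη

theorem finite_of_isClosed_ne_univ [QuasiSober X] [IrreducibleSpace X] [T0Space X]
    [NoetherianSpace X]
    (hX : topologicalKrullDim X ≤ 1) {Z : Set X} (hZ : IsClosed Z) (hne : Z ≠ Set.univ) :
    Z.Finite :=
  finite_of_isClosed_of_genericPoint_notMem hX hZ fun h =>
    hne (Set.eq_univ_of_univ_subset ((genericPoint_spec X).mem_closed_set_iff hZ |>.mp h))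

/-- A constructible subset of a noetherian one-dimensional irreducible space either is a finite set
of closed points or has such a complement. -/
theorem isConstructible_cases [QuasiSober X] [IrreducibleSpace X] [T0Space X] [NoetherianSpace X]
    (hX : topologicalKrullDim X ≤ 1) {s : Set X} (hs : Topology.IsConstructible s) :
    ((s.Finite ∧ genericPoint X ∉ s) ∨ (sᶜ.Finite ∧ genericPoint X ∈ s)) := by
  induction hs using Topology.IsConstructible.empty_union_induction with
  | open_retrocompact U hUo hUc =>
    by_cases h : genericPoint X ∈ U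
    · exact Or.inr ⟨finite_of_isClosed_of_genericPoint_notMem hX hUo.isClosed_compl (by simpa using h), h⟩
    · left
      have : U = ∅ := by
        by_contra hne
        exact h (((genericPoint_spec X).mem_open_set_iff hUo).mpr
          (by simpa using Set.nonempty_iff_ne_empty.mpr hne))
      subst this
      simp
  | union s hs t ht ihs iht =>
    rcases ihs with ⟨h1, g1⟩ | ⟨h1, g1⟩
    · rcases iht with ⟨h2, g2⟩ | ⟨h2, g2⟩
      · exact Or.inl ⟨h1.union h2, by simp [g1, g2]⟩
      · exact Or.inr ⟨h2.subset (by simp [Set.compl_union]), Or.inr g2⟩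
    · exact Or.inr ⟨h1.subset (by simp [Set.compl_union]), Or.inl g1⟩
  | compl s hs ihs =>
    rcases ihs with ⟨h1, g1⟩ | ⟨h1, g1⟩
    · exact Or.inr ⟨by simpa using h1, g1⟩
    · exact Or.inl ⟨h1, fun h => h g1⟩

end Groth.Agent.H29Curve
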