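import Groth.Agent.H29Curve.Topology
import Groth.Agent.H8Props.FlatDimOneBase
import Mathlib

/-!
# Morphisms of one-dimensional integral schemes over a field
-/

set_option autoImplicit false
set_option linter.style.haveILetI false
set_option maxHeartbeats 400000
universe u

open CategoryTheory CategoryTheory.Limits AlgebraicGeometry TopologicalSpace

namespace Groth.Agent.H29Curve

variable {k : Type u} [Field k] {X Y : Scheme.{u}}

theorem topologicalKrullDim_le_of_eq {X : Scheme.{u}} (h : topologicalKrullDim X = 1) :
    topologicalKrullDim X ≤ 1 := h.le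

theorem noetherianSpace_of_finiteType (p : X ⟶ Spec (CommRingCat.of k)) [LocallyOfFiniteType p]
    [QuasiCompact p] : NoetherianSpace X := by
  haveI := LocallyOfFiniteType.isLocallyNoetherian p
  haveI : CompactSpace X := QuasiCompact.compactSpace_of_compactSpace p
  haveI : IsNoetherian X := {}
  infer_instance

theorem isClosed_image_of_isClosed (p : X ⟶ Spec (CommRingCat.of k)) (q : Y ⟶ Spec (CommRingCat.of k))
    [LocallyOfFiniteType p] [LocallyOfFiniteType q] (f : X ⟶ Y) (hf : f ≫ q = p) {x : X}
    (hx : IsClosed ({x} : Set X)) : IsClosed ({f x} : Set Y) := by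
  haveI : LocallyOfFiniteType (f ≫ q) := by rw [hf]; infer_instance
  haveI : LocallyOfFiniteType f := locallyOfFiniteType_of_comp f q
  haveI : JacobsonSpace Y := LocallyOfFiniteType.jacobsonSpace q
  exact f.closePoints_subset_preimage_closedPoints hx

variable [IsIntegral X] (p : X ⟶ Spec (CommRingCat.of k)) (q : Y ⟶ Spec (CommRingCat.of k))
  [LocallyOfFiniteType p] [LocallyOfFiniteType q] (f : X ⟶ Y) (hf : f ≫ q = p)

theorem range_subset_closure_image_genericPoint :
    Set.range f ⊆ closure {f (genericPoint X)} := by
  rintro _ ⟨x, rfl⟩
  exact specializes_iff_mem_closure.1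
    (f.base.hom.map_specializes ((genericPoint_spec X).specializes trivial))

include hf in
/-- A non-constant morphism out of a curve has finite fibres. -/
theorem finite_preimage_of_nontrivial [QuasiCompact p] (hX : topologicalKrullDim X ≤ 1)
    (hnc : (Set.range f).Nontrivial) (y : Y) : (f ⁻¹' {y}).Finite := by
  haveI := noetherianSpace_of_finiteType p
  by_cases hy : y = f (genericPoint X)
  · subst hy
    refine (Set.finite_singleton (genericPoint X)).subset fun x hx => ?_
    rcases isClosed_singleton_or_eq_genericPoint hX x with h | h
    · exfalso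
      have hc := isClosed_image_of_isClosed p q f hf h
      rw [show f x = f (genericPoint X) from hx] at hc
      exact (hnc.mono ((range_subset_closure_image_genericPoint f).trans hc.closure_eq.le)).not_subsingleton
        Set.subsingleton_singleton
    · exact h
  · rcases (f ⁻¹' {y}).eq_empty_or_nonempty with he | ⟨x, hx⟩
    · rw [he]; exact Set.finite_empty
    refine (finite_of_isClosed_of_genericPoint_notMem hX (Z := f ⁻¹' closure {y})
      (isClosed_closure.preimage f.base.hom.continuous) fun hη => ?_).subset
        (Set.preimage_mono subset_closure)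
    rcases isClosed_singleton_or_eq_genericPoint hX x with h | h
    · have hc := isClosed_image_of_isClosed p q f hf h
      rw [show f x = y from hx] at hc
      rw [Set.mem_preimage, hc.closure_eq] at hη
      exact hy hη.symm
    · exact hy ((show f x = y from hx).symm.trans (congrArg f h))

include hf in
theorem locallyQuasiFinite_of_nontrivial [QuasiCompact p] (hX : topologicalKrullDim X ≤ 1)
    (hnc : (Set.range f).Nontrivial) : LocallyQuasiFinite f := by
  haveI : LocallyOfFiniteType (f ≫ q) := by rw [hf]; infer_instance
  haveI : LocallyOfFiniteType f := locallyOfFiniteType_of_comp f q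
  exact .of_finite_preimage_singleton f (finite_preimage_of_nontrivial p q f hf hX hnc)

include hf in
/-- A non-constant morphism between curves is dominant. -/
theorem apply_genericPoint_of_nontrivial [IsIntegral Y] (hY : topologicalKrullDim Y ≤ 1)
    (hnc : (Set.range f).Nontrivial) : f (genericPoint X) = genericPoint Y := by
  rcases isClosed_singleton_or_eq_genericPoint hY (f (genericPoint X)) with h | h
  · exact ((hnc.mono ((range_subset_closure_image_genericPoint f).trans h.closure_eq.le)).not_subsingleton
      Set.subsingleton_singleton).elim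
  · exact h

omit hf in
/-- A dominant morphism from a one-dimensional integral scheme to a one-dimensional one is non-constant. -/
theorem nontrivial_range_of_dominant [IsIntegral Y] [QuasiCompact p] (hf : f ≫ q = p)
    (hη : f (genericPoint X) = genericPoint Y) (hY : topologicalKrullDim Y = 1) :
    (Set.range f).Nontrivial := by
  haveI : CompactSpace X := QuasiCompact.compactSpace_of_compactSpace p
  obtain ⟨x, -, hxc⟩ := IsClosed.exists_closed_singleton isClosed_univ (Set.univ_nonempty (α := X))
  by_contra hnt
  rw [Set.not_nontrivial_iff] at hnt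
  have hc := isClosed_image_of_isClosed p q f hf hxc
  rw [hnt ⟨x, rfl⟩ ⟨genericPoint X, rfl⟩, hη] at hc
  haveI : Subsingleton Y := by
    refine ⟨fun a b => ?_⟩
    have h1 : ∀ y : Y, y = genericPoint Y := fun y => by
      have h2 : y ∈ closure ({genericPoint Y} : Set Y) := by
        rw [(genericPoint_spec Y).def]; trivial
      rwa [hc.closure_eq] at h2
    rw [h1 a, h1 b]
  have h2 : topologicalKrullDim Y ≤ 0 :=
    (Order.krullDim_nonpos_iff_forall_isMin).2 fun a b hb => by
      refine le_of_eq (SetLike.ext' ?_)
      exact (Subsingleton.eq_univ_of_nonempty a.isIrreducible'.nonempty).trans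
        (Subsingleton.eq_univ_of_nonempty b.isIrreducible'.nonempty).symm
  rw [hY] at h2
  exact absurd h2 (by norm_num)

omit [LocallyOfFiniteType p] [LocallyOfFiniteType q] in
/-- Stalk maps of dominant morphisms of integral schemes are injective. -/
theorem stalkMap_injective_of_dominant {X Y : Scheme.{u}} [IsIntegral X] [IsIntegral Y] (g : X ⟶ Y)
    (hη : g (genericPoint X) = genericPoint Y) (x : X) : Function.Injective (g.stalkMap x).hom := by
  have hspec : genericPoint X ⤳ x := (genericPoint_spec X).specializes trivial
  have hY : ∀ (ζ : Y) (hh : ζ ⤳ g x) (_ : ζ = genericPoint Y),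
      Function.Injective (Y.presheaf.stalkSpecializes hh) ∧ IsField (Y.presheaf.stalk ζ) := by
    rintro ζ hh rfl
    exact ⟨IsFractionRing.injective (Y.presheaf.stalk (g x)) Y.functionField, Field.toIsField Y.functionField⟩
  obtain ⟨hi, hF⟩ := hY _ (g.base.hom.map_specializes hspec) hη
  intro a b hab
  refine hi ?_
  letI := hF.toField
  refine (g.stalkMap (genericPoint X)).hom.injective ?_
  refine (Scheme.Hom.stalkSpecializes_stalkMap_apply g (genericPoint X) x hspec a).trans ?_
  refine Eq.trans ?_ (Scheme.Hom.stalkSpecializes_stalkMap_apply g (genericPoint X) x hspec b).symm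
  exact congrArg (X.presheaf.stalkSpecializes hspec) hab

omit [LocallyOfFiniteType p] [LocallyOfFiniteType q] in
/-- A dominant morphism of integral schemes to a normal scheme of dimension at most one is flat. -/
theorem flat_of_dominant_normal {X Y : Scheme.{u}} [IsIntegral X] [IsIntegral Y] [IsLocallyNoetherian Y]
    (g : X ⟶ Y) (hη : g (genericPoint X) = genericPoint Y)
    (hN : ∀ y : Y, IsIntegrallyClosed (Y.presheaf.stalk y)) (hY : topologicalKrullDim Y ≤ 1) : Flat g := by
  refine Flat.of_stalkMap g fun x => ?_
  let A := Y.presheaf.stalk (g x)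
  let B := X.presheaf.stalk x
  haveI : Ring.KrullDimLE 1 A :=
    Ring.krullDimLE_iff.2 ((H8Props.FlatDimOneBase.ringKrullDim_stalk_le Y (g x)).trans hY)
  haveI : Ring.DimensionLEOne A := ⟨fun hp hprime => Ring.krullDimLE_one_iff_of_noZeroDivisors.mp ‹_› _ hp hprime⟩
  haveI := hN (g x)
  haveI : IsDedekindDomain A := { }
  letI : Algebra A B := (g.stalkMap x).hom.toAlgebra
  show Module.Flat A B
  rw [IsDedekindDomain.flat_iff_torsion_eq_bot, ← Submodule.isTorsionFree_iff_torsion_eq_bot]
  haveI : FaithfulSMul A B := (faithfulSMul_iff_algebraMap_injective A B).2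
    (stalkMap_injective_of_dominant g hη x)
  infer_instance

end Groth.Agent.H29Curve
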