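import Groth.Prelude.Def_StCurv2
import Groth.Agent.H29Node.FieldDescent
import Groth.Agent.H13Desc.Flat
import Mathlib.AlgebraicGeometry.Geometrically.Reduced
import Mathlib.AlgebraicGeometry.Geometrically.Connected
import Mathlib.FieldTheory.IsAlgClosed.AlgebraicClosure

/-!
# Geometric fibres of the sheaf family of a scheme family; descent from algebraically closed fields
-/

set_option autoImplicit false
set_option linter.style.haveILetI false

universe u

open CategoryTheory CategoryTheory.Limits AlgebraicGeometry TopologicalSpace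

namespace Groth.Agent.H29Curve

/-- The geometric fibres of the sheaf family of a family of schemes are the geometric fibres of the scheme family. -/
theorem geomFib_toSpFam_iff {S : Scheme.{u}} (A : CurvSt.PtFamObj S 0)
    (Q : ∀ (Ω : Type u) [Field Ω] [IsAlgClosed Ω] (X' : Scheme.{u}), (X' ⟶ Spec (CommRingCat.of Ω)) → Prop) :
    CurvSt.GeomFib (fun Ω _ _ X' q _ => Q Ω X' q) ((CurvSt.toSpFam S 0).obj A) ↔
      ∀ (Ω : Type u) [Field Ω] [IsAlgClosed Ω] (t : Spec (CommRingCat.of Ω) ⟶ A.base.left) (X' : Scheme.{u})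
        (i : X' ⟶ A.C) (q : X' ⟶ Spec (CommRingCat.of Ω)), IsPullback i q A.f t → Q Ω X' q := by
  constructor
  · intro h Ω _ _ t X' i q hP
    let B := (CurvSt.toSpFam S 0).obj A
    let j : B.ptOver (q ≫ t) ⟶ A.totOver :=
      Over.homMk i (by
        show i ≫ A.f ≫ A.base.hom = (q ≫ t) ≫ A.base.hom
        rw [reassoc_of% hP.w, Category.assoc])
    have hO : IsPullback j (B.fibHom t q) A.fOver (B.ptHom t) :=
      IsPullback.of_map (Over.forget S) (Over.OverMorphism.ext hP.w) hP
    exact h Ω t X' q ((AlgSp.yon S).map j) (hO.map (AlgSp.yon S))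
  · intro h Ω _ _ t X' q i hP
    let B := (CurvSt.toSpFam S 0).obj A
    let j : B.ptOver (q ≫ t) ⟶ A.totOver := (AlgSp.yon S).preimage i
    have hj : (AlgSp.yon S).map j = i := (AlgSp.yon S).map_preimage _
    have hO : IsPullback j (B.fibHom t q) A.fOver (B.ptHom t) := by
      refine IsPullback.of_map (AlgSp.yon S) ?_ ?_
      · apply (AlgSp.yon S).map_injective
        rw [Functor.map_comp, Functor.map_comp, hj]
        exact hP.w
      · rw [hj]; exact hP
    exact h Ω t X' j.left q (hO.map (Over.forget S))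

variable {k : Type u} [Field k] {X : Scheme.{u}} (p : X ⟶ Spec (CommRingCat.of k))

/-- A property of the geometric fibres holds for one algebraically closed extension field above each field. -/
theorem exists_over_algClosure {K : Type u} [Field K] {Z : Scheme.{u}} {fst : Z ⟶ X} {snd : Z ⟶ Spec (CommRingCat.of K)}
    {y : Spec (CommRingCat.of K) ⟶ Spec (CommRingCat.of k)} (h : IsPullback fst snd p y) :
    ∃ (π : pullback snd (Spec.map (CommRingCat.ofHom (algebraMap K (AlgebraicClosure K)))) ⟶ Z),
      Flat π ∧ Surjective π ∧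
      IsPullback (π ≫ fst) (pullback.snd snd (Spec.map (CommRingCat.ofHom (algebraMap K (AlgebraicClosure K))))) p
        (Spec.map (CommRingCat.ofHom (algebraMap K (AlgebraicClosure K))) ≫ y) := by
  set e := Spec.map (CommRingCat.ofHom (algebraMap K (AlgebraicClosure K))) with he
  haveI : Surjective e :=
    ⟨Function.surjective_to_subsingleton (α := PrimeSpectrum (AlgebraicClosure K)) (β := PrimeSpectrum K) _⟩
  haveI : Flat e := by
    rw [he, HasRingHomProperty.Spec_iff (P := @Flat)]
    exact RingHom.flat_algebraMap_iff.2 inferInstance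
  exact ⟨pullback.fst snd e, inferInstance, inferInstance,
    (IsPullback.of_hasPullback snd e).paste_horiz h⟩

/-- Geometrically reduced, tested on algebraically closed fields. -/
theorem geometricallyReduced_iff_algClosed :
    GeometricallyReduced p ↔ ∀ (Ω : Type u) [Field Ω] [IsAlgClosed Ω] (t : Spec (CommRingCat.of Ω) ⟶ Spec (CommRingCat.of k))
      (X' : Scheme.{u}) (i : X' ⟶ X) (q : X' ⟶ Spec (CommRingCat.of Ω)), IsPullback i q p t → IsReduced X' := by
  refine ⟨fun h Ω _ _ t X' i q hP => h.geometrically_isReduced t i q hP, fun h => ⟨fun K _ y Z fst snd hZ => ?_⟩⟩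
  obtain ⟨π, hflat, hsurj, hP⟩ := exists_over_algClosure p hZ
  haveI := h _ _ _ _ _ hP
  exact H13Desc.isReduced_of_flat_surjective π

/-- Geometrically connected, tested on algebraically closed fields. -/
theorem geometricallyConnected_iff_algClosed :
    GeometricallyConnected p ↔ ∀ (Ω : Type u) [Field Ω] [IsAlgClosed Ω] (t : Spec (CommRingCat.of Ω) ⟶ Spec (CommRingCat.of k))
      (X' : Scheme.{u}) (i : X' ⟶ X) (q : X' ⟶ Spec (CommRingCat.of Ω)), IsPullback i q p t → ConnectedSpace ↥X' := by
  refine ⟨fun h Ω _ _ t X' i q hP => h.geometrically_connectedSpace t i q hP, fun h => ⟨fun K _ y Z fst snd hZ => ?_⟩⟩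
  obtain ⟨π, hflat, hsurj, hP⟩ := exists_over_algClosure p hZ
  haveI := h _ _ _ _ _ hP
  exact π.surjective.connectedSpace π.continuous

/-- The dimension of a scheme of finite type over a field does not change under extension of the field. -/
theorem dim_eq_of_isPullback [LocallyOfFiniteType p] {K : Type u} [Field K] {t : Spec (CommRingCat.of K) ⟶ Spec (CommRingCat.of k)}
    {X' : Scheme.{u}} {i : X' ⟶ X} {q : X' ⟶ Spec (CommRingCat.of K)} (hP : IsPullback i q p t) :
    topologicalKrullDim ↥X' = topologicalKrullDim ↥X := by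
  obtain ⟨φ, rfl⟩ := Spec.map_surjective t
  letI : Algebra k K := φ.hom.toAlgebra
  exact H8Props.FieldDim.dim_baseChange p i q hP

theorem isClosed_singleton_of_finite_of_isClosed {Y : Type u} [TopologicalSpace Y] [JacobsonSpace Y]
    {N : Set Y} (hN : IsClosed N) (hf : N.Finite) {x : Y} (hx : x ∈ N) : IsClosed ({x} : Set Y) := by
  haveI : Finite N := hf
  haveI : JacobsonSpace N := JacobsonSpace.of_isClosedEmbedding hN.isClosedEmbedding_subtypeVal
  simpa using hN.isClosedEmbedding_subtypeVal.isClosedMap _ (isClosed_discrete ({⟨x, hx⟩} : Set N))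

theorem finite_of_forall_isClosed {Y : Type u} [TopologicalSpace Y] [QuasiSober Y] [T0Space Y] [NoetherianSpace Y]
    {N : Set Y} (hN : IsClosed N) (h : ∀ x ∈ N, IsClosed ({x} : Set Y)) : N.Finite := by
  obtain ⟨T, hTf, hTcl, hTirr, hT⟩ := NoetherianSpace.exists_finite_set_isClosed_irreducible hN
  rw [hT]
  refine hTf.sUnion fun W hW => ?_
  have hgen := (hTirr W hW).isGenericPoint_genericPoint (hTcl W hW)
  have hmem : (hTirr W hW).genericPoint ∈ N := hT ▸ Set.subset_sUnion_of_mem hW hgen.mem
  rw [← hgen.def, (h _ hmem).closure_eq]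
  exact Set.finite_singleton _

theorem nonsmooth_eq_compl {Y T : Scheme.{u}} (f : Y ⟶ T) [LocallyOfFinitePresentation f] :
    {x : ↥Y | ¬ ∃ U : Y.Opens, x ∈ U ∧ Smooth (U.ι ≫ f)} = (f.smoothLocus : Set Y)ᶜ := by
  ext x
  exact not_congr (H17.LocusBC.mem_smoothLocus_iff_exists f x).symm

/-- Finiteness of the non-smooth set is insensitive to extensions of the ground field. -/
theorem finite_nonsmooth_iff_of_isPullback [IsProper p] {K : Type u} [Field K]
    {t : Spec (CommRingCat.of K) ⟶ Spec (CommRingCat.of k)}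
    {X' : Scheme.{u}} {i : X' ⟶ X} {q : X' ⟶ Spec (CommRingCat.of K)} (hP : IsPullback i q p t) :
    Set.Finite {x : ↥X' | ¬ ∃ U : X'.Opens, x ∈ U ∧ Smooth (U.ι ≫ q)} ↔
      Set.Finite {x : ↥X | ¬ ∃ U : X.Opens, x ∈ U ∧ Smooth (U.ι ≫ p)} := by
  haveI : IsProper q := MorphismProperty.of_isPullback hP ‹_›
  haveI : IsLocallyNoetherian X := LocallyOfFiniteType.isLocallyNoetherian p
  haveI : IsLocallyNoetherian X' := LocallyOfFiniteType.isLocallyNoetherian q
  haveI : CompactSpace X' := QuasiCompact.compactSpace_of_compactSpace q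
  haveI : IsNoetherian X' := { }
  haveI : LocallyOfFinitePresentation p := inferInstance
  haveI : LocallyOfFinitePresentation q := inferInstance
  obtain ⟨φ, rfl⟩ := Spec.map_surjective t
  letI : Algebra k K := φ.hom.toAlgebra
  letI : X.Over (Spec (CommRingCat.of k)) := ⟨p⟩
  letI : X'.Over (Spec (CommRingCat.of K)) := ⟨q⟩
  haveI : LocallyOfFiniteType (X ↘ Spec (CommRingCat.of k)) := inferInstanceAs (LocallyOfFiniteType p)
  haveI : Flat (Spec.map φ) := by
    rw [HasRingHomProperty.Spec_iff (P := @Flat)]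
    exact RingHom.flat_algebraMap_iff.2 (inferInstance : Module.Flat k K)
  have hpre : ∀ x' : X', x' ∈ q.smoothLocus ↔ i x' ∈ p.smoothLocus := fun x' =>
    ⟨H17.LocusBC.mem_smoothLocus_of_flat_baseChange hP x', fun hx => H17.LocusBC.preimage_smoothLocus_le hP hx⟩
  rw [nonsmooth_eq_compl q, nonsmooth_eq_compl p]
  have hsur : Function.Surjective i := H29Node.surjective_of_bc (k := k) (K := K) i hP
  have heq : (q.smoothLocus : Set X')ᶜ = i ⁻¹' (p.smoothLocus : Set X)ᶜ := by
    ext x'; exact not_congr (hpre x')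
  rw [heq]
  refine ⟨fun h => ?_, fun h => ?_⟩
  · have := h.image i
    rwa [Set.image_preimage_eq _ hsur] at this
  · haveI : JacobsonSpace X := LocallyOfFiniteType.jacobsonSpace p
    have hcl : IsClosed (p.smoothLocus : Set X)ᶜ := p.smoothLocus.isOpen.isClosed_compl
    refine finite_of_forall_isClosed (hcl.preimage i.continuous) fun x' hx' => ?_
    exact H29Node.isClosed_of_bc (k := k) (K := K) i hP (isClosed_singleton_of_finite_of_isClosed hcl h hx')

end Groth.Agent.H29Curve
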