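import Mathlib

/-!
# Units of finitely generated domains modulo constants

For a finitely generated domain `A` over a field `k`, the units of `A` have a homomorphism to a
finite free abelian group whose kernel consists exactly of the units algebraic over `k`.
-/

set_option maxHeartbeats 400000
universe u
open scoped nonZeroDivisors WithZero
open IsDedekindDomain Polynomial

namespace Groth.Agent.H29Curve

section DegVal

variable (k : Type u) [Field k] (s : ℕ)

open scoped Classical in
/-- The valuation `p ↦ exp (total degree)`. -/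
noncomputable def degVal : Valuation (MvPolynomial (Fin s) k) ℤᵐ⁰ where
  toFun p := if p = 0 then 0 else WithZero.exp (p.totalDegree : ℤ)
  map_zero' := if_pos rfl
  map_one' := by simp
  map_mul' p q := by
    by_cases hp : p = 0
    · simp [hp]
    by_cases hq : q = 0
    · simp [hq]
    rw [if_neg hp, if_neg hq, if_neg (mul_ne_zero hp hq),
      MvPolynomial.totalDegree_mul_of_isDomain hp hq, Nat.cast_add, WithZero.exp_add]
  map_add_le_max' p q := by
    by_cases hp : p = 0
    · simp [hp]
    by_cases hq : q = 0
    · simp [hq]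
    by_cases hpq : p + q = 0
    · simp [hpq]
    rw [if_neg hp, if_neg hq, if_neg hpq, le_max_iff, WithZero.exp_le_exp, WithZero.exp_le_exp]
    have := MvPolynomial.totalDegree_add p q
    omega

theorem degVal_le_one_iff (p : MvPolynomial (Fin s) k) :
    degVal k s p ≤ 1 ↔ p.totalDegree = 0 := by
  classical
  show (if p = 0 then (0 : ℤᵐ⁰) else WithZero.exp (p.totalDegree : ℤ)) ≤ 1 ↔ _
  by_cases hp : p = 0
  · simp [hp]
  · rw [if_neg hp, ← WithZero.exp_zero, WithZero.exp_le_exp]
    omega

theorem nonZeroDivisors_le_degVal :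
    (MvPolynomial (Fin s) k)⁰ ≤ (degVal k s).supp.primeCompl := by
  intro p hp h
  have h' : degVal k s p = 0 := h
  classical
  have hp0 := nonZeroDivisors.ne_zero hp
  change (if p = 0 then (0 : ℤᵐ⁰) else WithZero.exp (p.totalDegree : ℤ)) = 0 at h'
  rw [if_neg hp0] at h'
  exact WithZero.exp_ne_zero h'

/-- The degree valuation on the rational function field. -/
noncomputable def degValF : Valuation (FractionRing (MvPolynomial (Fin s) k)) ℤᵐ⁰ :=
  (degVal k s).extendToLocalization (nonZeroDivisors_le_degVal k s) _

theorem degValF_algebraMap (p : MvPolynomial (Fin s) k) :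
    degValF k s (algebraMap _ _ p) = degVal k s p :=
  Valuation.extendToLocalization_apply_map_apply _ _ _ _

theorem exists_degValF_eq_exp_one (hs : 0 < s) :
    degValF k s (algebraMap _ _ (MvPolynomial.X (⟨0, hs⟩ : Fin s) : MvPolynomial (Fin s) k)) = WithZero.exp (1 : ℤ) := by
  classical
  rw [degValF_algebraMap]
  show (if _ = 0 then (0 : ℤᵐ⁰) else _) = _
  rw [if_neg (MvPolynomial.X_ne_zero _), MvPolynomial.totalDegree_X]
  norm_num

theorem isDiscreteValuationRing_degValF (hs : 0 < s) :
    IsDiscreteValuationRing (degValF k s).valuationSubring := by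
  have : Nontrivial (MonoidWithZeroHom.valueGroup (.ofClass (degValF k s))) := by
    rw [Subgroup.nontrivial_iff_exists_ne_one]
    have hm : (Units.mk0 (WithZero.exp (1 : ℤ)) WithZero.exp_ne_zero : ℤᵐ⁰ˣ) ∈
        MonoidWithZeroHom.valueGroup (.ofClass (degValF k s)) :=
      MonoidWithZeroHom.mem_valueGroup _ ⟨_, exists_degValF_eq_exp_one k s hs⟩
    refine ⟨_, hm, ?_⟩
    intro h
    have h1 := congrArg (fun x : ℤᵐ⁰ˣ => (x : ℤᵐ⁰)) h
    simp only [Units.val_mk0, Units.val_one] at h1
    rw [← WithZero.exp_zero, WithZero.exp_inj] at h1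
    omega
  infer_instance

end DegVal

/-- **Units modulo constants**: for a finitely generated domain over a field there is a homomorphism
on units to a finite free abelian group whose kernel is the units algebraic over the field. -/
theorem exists_units_addHom (k : Type u) [Field k] (A : Type u) [CommRing A] [IsDomain A]
    [Algebra k A] [Algebra.FiniteType k A] :
    ∃ (S : Type u) (_ : Finite S) (φ : Additive Aˣ →+ (S → ℤ)),
      ∀ a : Aˣ, φ (Additive.ofMul a) = 0 ↔ IsIntegral k (a : A) := by
  obtain ⟨s, g, hginj, hgfin⟩ := exists_finite_inj_algHom_of_fg k A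
  let := g.toRingHom.toAlgebra
  have : IsScalarTower k (MvPolynomial (Fin s) k) A :=
    IsScalarTower.of_algebraMap_eq fun x => (g.commutes x).symm
  have hfinA : Module.Finite (MvPolynomial (Fin s) k) A := hgfin
  rcases Nat.eq_zero_or_pos s with rfl | hs
  · have : Module.Finite k (MvPolynomial (Fin 0) k) :=
      Module.Finite.equiv (MvPolynomial.isEmptyAlgEquiv k (Fin 0)).symm.toLinearEquiv
    have : Module.Finite k A := .trans (MvPolynomial (Fin 0) k) A
    exact ⟨PEmpty, inferInstance, 0, fun a => iff_of_true rfl (Algebra.IsIntegral.isIntegral _)⟩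
  set P := MvPolynomial (Fin s) k
  let F := FractionRing P
  let K := FractionRing A
  have : FaithfulSMul P K := by
    rw [faithfulSMul_iff_algebraMap_injective, IsScalarTower.algebraMap_eq P A K]
    exact (IsFractionRing.injective A K).comp hginj
  let : Algebra F K := FractionRing.liftAlgebra P K
  have : IsScalarTower P F K := FractionRing.isScalarTower_liftAlgebra P K
  have : FaithfulSMul P A := by
    rw [faithfulSMul_iff_algebraMap_injective]; exact hginj
  have : FiniteDimensional F K := Module.Finite.of_isLocalization P A P⁰ (Rₚ := F) (Sₚ := K)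
  let Ks := separableClosure F K
  have hpi : IsPurelyInseparable Ks K := separableClosure.isPurelyInseparable F K
  have : IsScalarTower P Ks K := IsScalarTower.of_algebraMap_eq fun x => by
    rw [IsScalarTower.algebraMap_apply P F Ks, ← IsScalarTower.algebraMap_apply F Ks K,
      ← IsScalarTower.algebraMap_apply P F K]
  let O := (degValF k s).valuationSubring
  have : IsDiscreteValuationRing O := isDiscreteValuationRing_degValF k s hs
  let C := integralClosure O Ks
  have : IsDedekindDomain C := IsIntegralClosure.isDedekindDomain O F Ks C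
  have : IsFractionRing C Ks := IsIntegralClosure.isFractionRing_of_finite_extension O F Ks C
  obtain ⟨π, hπ⟩ := IsDiscreteValuationRing.exists_irreducible O
  have hfin : Finite (HeightOneSpectrum C) := by
    have hC0 : Ideal.span {algebraMap O C π} ≠ ⊥ := by
      rw [Ne, Ideal.span_singleton_eq_bot]
      intro h
      have h1 : algebraMap O Ks π = 0 := congrArg Subtype.val h
      rw [IsScalarTower.algebraMap_apply O F Ks, map_eq_zero] at h1
      exact hπ.ne_zero (IsFractionRing.injective O F (by rw [h1, map_zero]))
    refine ((Ideal.finite_factors hC0).subset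
      (s := {v : HeightOneSpectrum C | v.asIdeal ∣ Ideal.span {algebraMap O C π}})
      le_rfl |> fun hf => Set.finite_univ_iff.mp (hf.subset fun v _ => ?_))
    show v.asIdeal ∣ _
    rw [Ideal.dvd_span_singleton]
    have hne : v.asIdeal.comap (algebraMap O C) ≠ ⊥ := fun h =>
      v.ne_bot (Ideal.eq_bot_of_comap_eq_bot h)
    have hmax : v.asIdeal.comap (algebraMap O C) = IsLocalRing.maximalIdeal O :=
      IsLocalRing.eq_maximalIdeal
        ((Ideal.IsPrime.comap (algebraMap O C)).isMaximal hne)
    rw [← Ideal.mem_comap, hmax]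
    exact (IsLocalRing.mem_maximalIdeal _).mpr hπ.not_isUnit
  obtain ⟨p, hp⟩ := ExpChar.exists Ks
  let ψ : K →+* Ks := IsPurelyInseparable.iterateFrobenius Ks K p
    (le_refl (IsPurelyInseparable.exponent Ks K))
  have hψ : ∀ x : K, algebraMap Ks K (ψ x) = x ^ p ^ IsPurelyInseparable.exponent Ks K :=
    fun x => IsPurelyInseparable.algebraMap_iterateFrobenius Ks p _ x
  have hψ0 : ∀ a : Aˣ, ψ (algebraMap A K a) ≠ 0 := fun a => by
    rw [Ne, map_eq_zero]
    exact IsFractionRing.to_map_ne_zero_of_mem_nonZeroDivisors
      (mem_nonZeroDivisors_of_ne_zero a.ne_zero)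
  have hv0 : ∀ (v : HeightOneSpectrum C) (a : Aˣ), v.valuation Ks (ψ (algebraMap A K a)) ≠ 0 :=
    fun v a => (Valuation.ne_zero_iff _).mpr (hψ0 a)
  let φ : Additive Aˣ →+ (HeightOneSpectrum C → ℤ) :=
    AddMonoidHom.mk' (fun a v => WithZero.log (v.valuation Ks (ψ (algebraMap A K (a.toMul : Aˣ)))))
      fun a b => by
        funext v
        simp only [toMul_add, Units.val_mul, map_mul, Pi.add_apply]
        exact WithZero.log_mul (hv0 v _) (hv0 v _)
  refine ⟨HeightOneSpectrum C, hfin, φ, fun a => ?_⟩
  have hint_iff : ∀ x : Ks, (∀ v : HeightOneSpectrum C, v.valuation Ks x ≤ 1) → IsIntegral O x := by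
    intro x hx
    obtain ⟨c, hc⟩ := HeightOneSpectrum.mem_integers_of_valuation_le_one Ks x hx
    rw [← hc]
    exact c.2
  have hkO : ∀ c : k, degValF k s (algebraMap P F (algebraMap k P c)) ≤ 1 := fun c => by
    rw [degValF_algebraMap, degVal_le_one_iff]
    exact MvPolynomial.totalDegree_C c
  have hk : ∀ c : k, algebraMap F K (algebraMap P F (algebraMap k P c)) =
      algebraMap A K (algebraMap k A c) := fun c => by
    rw [← IsScalarTower.algebraMap_apply P F K, IsScalarTower.algebraMap_apply k P A,
      ← IsScalarTower.algebraMap_apply P A K]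
  constructor
  · intro h
    have h1 : ∀ v : HeightOneSpectrum C, v.valuation Ks (ψ (algebraMap A K a)) ≤ 1 := fun v => by
      have h2 : WithZero.log (v.valuation Ks (ψ (algebraMap A K a))) = 0 := congrFun h v
      rw [← WithZero.exp_log (hv0 v a), h2, WithZero.exp_zero]
    obtain ⟨b, hb⟩ : ∃ b : A, b = (a : A) ^ p ^ IsPurelyInseparable.exponent Ks K := ⟨_, rfl⟩
    have hbK : algebraMap Ks K (ψ (algebraMap A K a)) = algebraMap A K b := by
      rw [hψ, hb, map_pow]
    set y := ψ (algebraMap A K a) with hy
    have hyP : IsIntegral P y := by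
      refine (isIntegral_algebraMap_iff (B := K) (algebraMap Ks K).injective).mp ?_
      rw [hbK]
      exact (Algebra.IsIntegral.isIntegral (R := P) b).map (IsScalarTower.toAlgHom P A K)
    have hyO : IsIntegral O y := hint_iff y h1
    have hcoef : ∀ i, ∃ c : k, algebraMap P F (algebraMap k P c) = (minpoly F y).coeff i := by
      intro i
      obtain ⟨c, hc⟩ : ∃ c : P, algebraMap P F c = (minpoly F y).coeff i :=
        ⟨(minpoly P y).coeff i, by
          rw [minpoly.isIntegrallyClosed_eq_field_fractions' F hyP, coeff_map]⟩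
      have h3 : degValF k s ((minpoly F y).coeff i) ≤ 1 := by
        rw [minpoly.isIntegrallyClosed_eq_field_fractions' F hyO, coeff_map]
        exact ((minpoly O y).coeff i).2
      rw [← hc, degValF_algebraMap, degVal_le_one_iff] at h3
      exact ⟨c.coeff 0, by rw [← hc, MvPolynomial.algebraMap_eq,
        ← (MvPolynomial.totalDegree_eq_zero_iff_eq_C).mp h3]⟩
    have hlift : minpoly F y ∈ Polynomial.lifts ((algebraMap P F).comp (algebraMap k P)) :=
      (Polynomial.lifts_iff_coeff_lifts _).mpr fun i => by
        obtain ⟨c, hc⟩ := hcoef i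
        exact ⟨c, hc⟩
    obtain ⟨q, hq, -, hqm⟩ := Polynomial.lifts_and_degree_eq_and_monic hlift
      (minpoly.monic hyP.tower_top)
    refine IsIntegral.of_pow (n := p ^ IsPurelyInseparable.exponent Ks K)
      (pow_pos (expChar_pos Ks p) _) ⟨q, hqm, ?_⟩
    rw [← hb]
    refine IsFractionRing.injective A K ?_
    rw [map_zero, Polynomial.hom_eval₂, ← hbK]
    have h4 : (algebraMap A K).comp (algebraMap k A) =
        (algebraMap Ks K).comp ((algebraMap F Ks).comp ((algebraMap P F).comp (algebraMap k P))) :=
      RingHom.ext fun c => by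
        show _ = algebraMap Ks K (algebraMap F Ks _)
        rw [← IsScalarTower.algebraMap_apply F Ks K]
        exact (hk c).symm
    rw [h4, ← Polynomial.hom_eval₂, ← Polynomial.eval₂_map, hq]
    have h5 : Polynomial.eval₂ (algebraMap F Ks) y (minpoly F y) = 0 := minpoly.aeval F y
    rw [h5, map_zero]
  · intro h
    -- an element algebraic over `k` is integral over `O`, as is its inverse
    have key : ∀ c : A, IsIntegral k c → ∀ v : HeightOneSpectrum C,
        v.valuation Ks (ψ (algebraMap A K c)) ≤ 1 := by
      intro c hc v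
      have hO : IsIntegral O (ψ (algebraMap A K c)) := by
        refine (isIntegral_algebraMap_iff (B := K) (algebraMap Ks K).injective).mp ?_
        rw [hψ]
        refine IsIntegral.pow ?_ _
        obtain ⟨q, hqm, hq⟩ := hc
        let j : k →+* O := ((algebraMap P F).comp (algebraMap k P)).codRestrict O.toSubring hkO
        refine ⟨q.map j, hqm.map j, ?_⟩
        rw [Polynomial.eval₂_map]
        have h4 : (algebraMap O K).comp j = (algebraMap A K).comp (algebraMap k A) :=
          RingHom.ext fun c => hk c
        rw [h4, ← Polynomial.hom_eval₂, hq, map_zero]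
      exact HeightOneSpectrum.valuation_le_one v (⟨_, hO⟩ : C)
    have hinv : IsIntegral k ((↑a⁻¹ : Aˣ) : A) := by
      refine (isIntegral_algebraMap_iff (B := K) (IsFractionRing.injective A K)).mp ?_
      rw [map_units_inv]
      exact (h.map (IsScalarTower.toAlgHom k A K)).inv
    funext v
    show WithZero.log (v.valuation Ks (ψ (algebraMap A K a))) = 0
    have h1 := key _ h v
    have h2 := key _ hinv v
    have h3 : v.valuation Ks (ψ (algebraMap A K a)) *
        v.valuation Ks (ψ (algebraMap A K ↑a⁻¹)) = 1 := by
      rw [← map_mul, ← map_mul, ← map_mul, Units.mul_inv, map_one, map_one, map_one]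
    have : v.valuation Ks (ψ (algebraMap A K a)) = 1 := by
      refine le_antisymm h1 ?_
      calc (1 : ℤᵐ⁰) = _ := h3.symm
        _ ≤ v.valuation Ks (ψ (algebraMap A K a)) * 1 := by gcongr
        _ = _ := mul_one _
    rw [this, WithZero.log_one]

end Groth.Agent.H29Curve
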