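import Mathlib
import Groth.Agent.H29Curve.UnitsModConst

/-!
# Global units modulo constants on reduced schemes of finite type over a field
-/

set_option maxHeartbeats 400000
universe u
open CategoryTheory AlgebraicGeometry TopologicalSpace Polynomial

namespace Groth.Agent.H29Curve

/-- Affine open neighbourhoods inside a single irreducible component. -/
theorem exists_affine_in_component {X : Scheme.{u}} (hirr : (irreducibleComponents (X : Type u)).Finite)
    (Z : Set X) (hZ : Z ∈ irreducibleComponents (X : Type u)) :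
    ∃ U : X.Opens, IsAffineOpen U ∧ (U : Set X).Nonempty ∧ (U : Set X) ⊆ Z := by
  have hclosed : IsClosed (⋃₀ (irreducibleComponents (X : Type u) \ {Z})) := by
    rw [Set.sUnion_eq_biUnion]
    exact (hirr.subset Set.sdiff_subset).isClosed_biUnion fun W hW =>
      isClosed_of_mem_irreducibleComponents W hW.1
  obtain ⟨x, hxZ, hx⟩ : ∃ x ∈ Z, x ∉ ⋃₀ (irreducibleComponents (X : Type u) \ {Z}) := by
    by_contra h
    push Not at h
    obtain ⟨W, hW, hZW⟩ := isIrreducible_iff_sUnion_isClosed.mp hZ.1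
      (hirr.subset (Set.sdiff_subset (t := {Z}))).toFinset
      (fun W hW => isClosed_of_mem_irreducibleComponents W ((Set.Finite.mem_toFinset _).mp hW).1)
      (by rw [Set.Finite.coe_toFinset]; exact h)
    rw [Set.Finite.mem_toFinset] at hW
    exact hW.2 (le_antisymm (hZ.le_of_ge hW.1.1 hZW) hZW)
  obtain ⟨U, hU, hxU, hUc⟩ := exists_isAffineOpen_mem_and_subset (X := X) (x := x)
    (U := ⟨(⋃₀ (irreducibleComponents (X : Type u) \ {Z}))ᶜ, hclosed.isOpen_compl⟩) hx
  refine ⟨U, hU, ⟨x, hxU⟩, fun y hy => ?_⟩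
  by_contra hyZ
  exact hUc hy ⟨irreducibleComponent y, ⟨irreducibleComponent_mem_irreducibleComponents y,
    fun h => hyZ (Set.mem_singleton_iff.mp h ▸ mem_irreducibleComponent)⟩, mem_irreducibleComponent⟩

/-- A homomorphism from global units to a finite free abelian group, with kernel the units whose
algebraicity is detected on the generic affine charts. -/
theorem exists_units_addHom_scheme (k : Type u) [Field k] {X : Scheme.{u}}
    (f : X ⟶ Spec (CommRingCat.of k)) [LocallyOfFiniteType f] [IsReduced X]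
    (hirr : (irreducibleComponents (X : Type u)).Finite) :
    ∃ (J : Type u) (_ : Finite J) (φ : Additive (Γ(X, ⊤))ˣ →+ (J → ℤ)),
      ∀ a : (Γ(X, ⊤))ˣ, φ (Additive.ofMul a) = 0 ↔
        ((Scheme.ΓSpecIso (CommRingCat.of k)).inv ≫ f.appTop).hom.IsIntegralElem (a : Γ(X, ⊤)) := by
  classical
  set c := ((Scheme.ΓSpecIso (CommRingCat.of k)).inv ≫ f.appTop).hom with hc
  have : Fintype (irreducibleComponents (X : Type u)) := hirr.fintype
  choose U hUa hUne hUZ using fun Z : irreducibleComponents (X : Type u) =>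
    exists_affine_in_component hirr Z.1 Z.2
  let r : ∀ Z, Γ(X, ⊤) →+* Γ(X, U Z) := fun Z => (X.presheaf.map (homOfLE le_top).op).hom
  let : ∀ Z, Algebra k Γ(X, U Z) := fun Z => ((r Z).comp c).toAlgebra
  have hdom : ∀ Z, IsDomain Γ(X, U Z) := fun Z => by
    have : IrreducibleSpace (U Z : Scheme.{u}) := by
      have h1 : IsPreirreducible (U Z : Set X) :=
        Z.2.1.2.open_subset (U Z).2 (hUZ Z)
      have : PreirreducibleSpace (U Z : Scheme.{u}) := Subtype.preirreducibleSpace h1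
      have : Nonempty (U Z : Scheme.{u}) := (hUne Z).to_subtype
      exact ⟨inferInstance⟩
    have : IsIntegral (U Z : Scheme.{u}) := isIntegral_of_irreducibleSpace_of_isReduced _
    exact (U Z).topIso.symm.commRingCatIsoToRingEquiv.toMulEquiv.isDomain
      Γ((U Z : Scheme.{u}), ⊤)
  have hft : ∀ Z, Algebra.FiniteType k Γ(X, U Z) := fun Z => by
    have h := f.finiteType_appLE (isAffineOpen_top _) (hUa Z) (le_top.trans (Scheme.Hom.preimage_top f).ge)
    have h2 := h.comp (RingHom.FiniteType.of_surjective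
      (Scheme.ΓSpecIso (CommRingCat.of k)).inv.hom
      (Scheme.ΓSpecIso (CommRingCat.of k)).commRingCatIsoToRingEquiv.symm.surjective)
    exact h2
  choose S hS φ hφ using fun Z => @exists_units_addHom k _ Γ(X, U Z) _ (hdom Z) _ (hft Z)
  let ψ : Additive (Γ(X, ⊤))ˣ →+ ((Σ Z, S Z) → ℤ) :=
    AddMonoidHom.mk' (fun a j => φ j.1 (Additive.ofMul (Units.map (r j.1).toMonoidHom a.toMul)) j.2)
      fun a b => by
        funext j
        simp only [toMul_add, map_mul, ofMul_mul, map_add, Pi.add_apply]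
  refine ⟨Σ Z, S Z, inferInstance, ψ, fun a => ⟨fun h => ?_, fun ⟨q, hqm, hq⟩ => ?_⟩⟩
  · have h1 : ∀ Z, IsIntegral k (r Z (a : Γ(X, ⊤))) := fun Z =>
      (hφ Z (Units.map (r Z).toMonoidHom a)).mp (funext fun j => congrFun h ⟨Z, j⟩)
    choose q hqm hq using h1
    refine ⟨∏ Z, q Z, Polynomial.monic_prod_of_monic _ _ fun Z _ => hqm Z, ?_⟩
    obtain ⟨e, he⟩ : ∃ e : Γ(X, ⊤), e = Polynomial.eval₂ c (a : Γ(X, ⊤)) (∏ Z, q Z) := ⟨_, rfl⟩
    have h2 : ∀ Z, r Z e = 0 := fun Z => by
      rw [he, Polynomial.hom_eval₂, Polynomial.eval₂_finsetProd]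
      exact Finset.prod_eq_zero (Finset.mem_univ Z) (hq Z)
    rw [← he]
    have hb : X.basicOpen e = ⊥ := by
      rw [eq_bot_iff]
      intro x hx
      have hZ := irreducibleComponent_mem_irreducibleComponents x
      obtain ⟨y, hyZ, hyb, hyU⟩ := hZ.1.2 (X.basicOpen e : Set X)
        (U ⟨_, hZ⟩ : Set X) (X.basicOpen e).2 (U ⟨_, hZ⟩).2
        ⟨x, mem_irreducibleComponent, hx⟩
        (let ⟨y, hy⟩ := hUne ⟨_, hZ⟩; ⟨y, hUZ ⟨_, hZ⟩ hy, hy⟩)
      have h3 : y ∈ X.basicOpen ((X.presheaf.map (homOfLE (le_top (a := U ⟨_, hZ⟩))).op).hom e) := by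
        rw [Scheme.basicOpen_res]
        exact ⟨hyU, hyb⟩
      rw [show (X.presheaf.map (homOfLE (le_top (a := U ⟨_, hZ⟩))).op).hom e = 0 from h2 ⟨_, hZ⟩,
        Scheme.basicOpen_zero] at h3
      exact h3.elim
    exact (basicOpen_eq_bot_iff e).mp hb
  · funext ⟨Z, j⟩
    have h1 : IsIntegral k (r Z (a : Γ(X, ⊤))) := by
      refine ⟨q, hqm, ?_⟩
      show Polynomial.eval₂ ((r Z).comp c) (r Z (a : Γ(X, ⊤))) q = 0
      rw [← Polynomial.hom_eval₂, hq, map_zero]
    exact congrFun ((hφ Z (Units.map (r Z).toMonoidHom a)).mpr h1) j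

end Groth.Agent.H29Curve
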