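import Groth.Agent.H17.Dim
import Groth.Agent.H29Curve.Topology
import Mathlib.RingTheory.NoetherNormalization
import Mathlib.RingTheory.KrullDimension.Polynomial
import Mathlib.RingTheory.KrullDimension.Field
import Mathlib.RingTheory.Spectrum.Prime.Topology
import Mathlib.RingTheory.Ideal.GoingUp
import Mathlib.FieldTheory.IntermediateField.Adjoin.Algebra
import Mathlib.RingTheory.Localization.FractionRing

/-!
Function fields of affine domains: bounded transcendence degree.
-/

set_option autoImplicit false
universe u v

namespace Groth.Agent.H29Curve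

/-- Integral injective extensions do not lower the dimension. -/
theorem ringKrullDim_le_of_isIntegral {R : Type u} {S : Type v} [CommRing R] [CommRing S]
    (f : R →+* S) (hf : f.IsIntegral) (hinj : Function.Injective f) :
    ringKrullDim R ≤ ringKrullDim S := by
  rw [← PrimeSpectrum.topologicalKrullDim_eq_ringKrullDim,
    ← PrimeSpectrum.topologicalKrullDim_eq_ringKrullDim]
  refine H17.topologicalKrullDim_le_of_specializingMap (PrimeSpectrum.comap f)
    (PrimeSpectrum.isClosedMap_comap_of_isIntegral f hf).specializingMap fun p => ?_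
  letI := f.toAlgebra
  haveI : Algebra.IsIntegral R S := ⟨hf⟩
  obtain ⟨Q, -, hQ, hQp⟩ := Ideal.exists_ideal_over_prime_of_isIntegral p.asIdeal (⊥ : Ideal S)
    (by
      intro x hx
      rw [Ideal.mem_comap, Ideal.mem_bot] at hx
      rw [(map_eq_zero_iff f hinj).mp hx]
      exact p.asIdeal.zero_mem)
  exact ⟨⟨Q, hQ⟩, PrimeSpectrum.ext hQp⟩

/-- The fraction field of a finitely generated domain of dimension at most `n` is algebraic over a
subfield generated by at most `n` elements. -/
theorem exists_finset_isAlgebraic (k : Type u) [Field k] (A : Type v) [CommRing A] [IsDomain A]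
    [Algebra k A] [Algebra.FiniteType k A] (K : Type v) [Field K] [Algebra A K] [IsFractionRing A K]
    [Algebra k K] [IsScalarTower k A K] (n : ℕ) (hn : ringKrullDim A ≤ n) :
    ∃ S : Finset K, S.card ≤ n ∧ Algebra.IsAlgebraic (IntermediateField.adjoin k (S : Set K)) K := by
  classical
  obtain ⟨s, g, hg, hfin⟩ := exists_finite_inj_algHom_of_fg k A
  have hint : g.toRingHom.IsIntegral := RingHom.IsIntegral.of_finite hfin
  have hs : s ≤ n := by
    have h := (ringKrullDim_le_of_isIntegral g.toRingHom hint hg).trans hn
    rw [MvPolynomial.ringKrullDim_of_isNoetherianRing, ringKrullDim_eq_zero_of_field, zero_add,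
      Nat.card_fin] at h
    exact_mod_cast h
  let x : Fin s → K := fun i => algebraMap A K (g (MvPolynomial.X i))
  refine ⟨Finset.univ.image x, (Finset.card_image_le).trans (by simpa using hs), ?_⟩
  set E := IntermediateField.adjoin k ((Finset.univ.image x : Finset K) : Set K)
  have hmem : ∀ i, x i ∈ E := fun i => IntermediateField.subset_adjoin k _
    (Finset.mem_coe.mpr (Finset.mem_image_of_mem x (Finset.mem_univ i)))
  let φ : MvPolynomial (Fin s) k →ₐ[k] E := MvPolynomial.aeval fun i => ⟨x i, hmem i⟩
  have hφ : (algebraMap E K).comp φ.toRingHom = (algebraMap A K).comp g.toRingHom := by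
    apply MvPolynomial.ringHom_ext
    · intro c
      show algebraMap E K (φ (MvPolynomial.C c)) = algebraMap A K (g (MvPolynomial.C c))
      rw [← MvPolynomial.algebraMap_eq, φ.commutes, g.commutes, ← IsScalarTower.algebraMap_apply,
        ← IsScalarTower.algebraMap_apply]
    · intro i
      show algebraMap E K (φ (MvPolynomial.X i)) = _
      simp [φ, x]
  have hA : ∀ a : A, IsIntegral E (algebraMap A K a) := by
    intro a
    obtain ⟨p, hp, hpa⟩ := hint a
    refine ⟨p.map φ.toRingHom, hp.map _, ?_⟩
    rw [Polynomial.eval₂_map, hφ, ← Polynomial.hom_eval₂, hpa, map_zero]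
  refine ⟨fun z => ?_⟩
  obtain ⟨a, b, -, rfl⟩ := IsFractionRing.div_surjective (A := A) z
  rw [div_eq_mul_inv]
  exact ((hA a).mul (hA b).inv).isAlgebraic

end Groth.Agent.H29Curve
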