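import Groth.Prelude.Def_CurvBase
import Mathlib

/-!
# Differentials of local rings of smooth schemes over a field
-/

set_option autoImplicit false
set_option linter.style.haveILetI false
set_option maxHeartbeats 400000
universe u

open CategoryTheory AlgebraicGeometry IsLocalRing TensorProduct

namespace Groth.Agent.H29Curve

/-- For a formally smooth local algebra with free differentials of rank one and separable residue field,
an irreducible element generates the maximal ideal and its differential is a basis. -/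
theorem bijective_smul_D_of_rank_one (k A : Type u) [Field k] [CommRing A] [Algebra k A] [IsLocalRing A]
    [IsNoetherianRing A] [Algebra.FormallySmooth k A] [Module.Free A Ω[A⁄k]] [Module.Finite A Ω[A⁄k]]
    (hr : Module.finrank A Ω[A⁄k] = 1) [Algebra.IsSeparable k (ResidueField A)] {s : A}
    (hs : Irreducible s) :
    maximalIdeal A = Ideal.span {s} ∧
      Function.Bijective (fun a : A => a • KaehlerDifferential.D k A s) := by
  haveI : Algebra.FormallyEtale k (ResidueField A) := Algebra.FormallyEtale.of_isSeparable k _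
  have hf : Function.Surjective (algebraMap A (ResidueField A)) := residue_surjective
  let φ := KaehlerDifferential.kerCotangentToTensor k A (ResidueField A)
  obtain ⟨l, hl⟩ := (Algebra.FormallySmooth.iff_split_injection (R := k) hf).1 inferInstance
  have hinj : Function.Injective φ :=
    Function.LeftInverse.injective (g := l) fun x => LinearMap.congr_fun hl x
  have hsurj : Function.Surjective φ := fun x =>
    (KaehlerDifferential.exact_kerCotangentToTensor_mapBaseChange k A (ResidueField A) hf x).mp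
      (Subsingleton.elim _ _)
  have hker : RingHom.ker (algebraMap A (ResidueField A)) = maximalIdeal A := ker_residue
  have e₁ : ((ResidueField A) ⊗[A] Ω[A⁄k]) ≃ₗ[A]
      (RingHom.ker (algebraMap A (ResidueField A))).Cotangent :=
    (LinearEquiv.ofBijective φ ⟨hinj, hsurj⟩).symm
  rw [hker] at e₁
  have E : ((ResidueField A) ⊗[A] Ω[A⁄k]) ≃ₗ[ResidueField A] CotangentSpace A :=
    e₁.extendScalarsOfSurjective hf
  have hcot : Module.finrank (ResidueField A) (CotangentSpace A) = 1 := by
    rw [← E.finrank_eq, Module.finrank_baseChange, hr]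
  have hpr : (maximalIdeal A).IsPrincipal := finrank_cotangentSpace_le_one_iff.1 hcot.le
  obtain ⟨t, ht⟩ := hpr.1
  have hsm : s ∈ maximalIdeal A := (mem_maximalIdeal s).2 hs.not_isUnit
  have htm : t ∈ maximalIdeal A := by rw [ht]; exact Submodule.mem_span_singleton_self t
  rw [ht] at hsm
  obtain ⟨a, ha⟩ := Submodule.mem_span_singleton.1 hsm
  have hau : IsUnit a := (hs.isUnit_or_isUnit (a := a) (b := t) ha.symm).resolve_right
    ((mem_maximalIdeal t).1 htm)
  have hmax : maximalIdeal A = Ideal.span {s} := by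
    rw [ht, ← ha, smul_eq_mul, Ideal.span_singleton_mul_left_unit hau]
  refine ⟨hmax, ?_⟩
  let L : A →ₗ[A] Ω[A⁄k] := LinearMap.toSpanSingleton A _ (KaehlerDifferential.D k A s)
  show Function.Bijective L
  have hL : Function.Surjective L := by
    rw [← LinearMap.range_eq_top, ← top_le_iff]
    refine Submodule.le_of_le_smul_of_le_jacobson_bot (I := maximalIdeal A) Module.Finite.fg_top
      (le_of_eq (jacobson_eq_maximalIdeal (⊥ : Ideal A) bot_ne_top).symm) fun ω _ => ?_
    obtain ⟨z, hz⟩ := hsurj ((1 : ResidueField A) ⊗ₜ[A] ω)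
    obtain ⟨⟨w, hw⟩, rfl⟩ := Ideal.toCotangent_surjective _ z
    have hw' : w ∈ Ideal.span {s} := hmax ▸ hker ▸ hw
    obtain ⟨c, rfl⟩ := Ideal.mem_span_singleton'.1 hw'
    have hz' : ((1 : ResidueField A) ⊗ₜ[A] ω) = (1 : ResidueField A) ⊗ₜ[A] (c • KaehlerDifferential.D k A s) := by
      rw [← hz, KaehlerDifferential.kerCotangentToTensor_toCotangent, Derivation.leibniz, TensorProduct.tmul_add]
      have h0 : (1 : ResidueField A) ⊗ₜ[A] (s • KaehlerDifferential.D k A c) = 0 := by
        rw [← TensorProduct.smul_tmul, Algebra.smul_def, mul_one]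
        rw [show algebraMap A (ResidueField A) s = 0 from
          (residue_eq_zero_iff s).2 ((mem_maximalIdeal s).2 hs.not_isUnit), TensorProduct.zero_tmul]
      rw [h0, add_zero]
    rw [← sub_eq_zero, ← TensorProduct.tmul_sub] at hz'
    have hmem : ω - c • KaehlerDifferential.D k A s ∈ maximalIdeal A • (⊤ : Submodule A Ω[A⁄k]) := by
      have h2 := congrArg (TensorProduct.quotTensorEquivQuotSMul Ω[A⁄k] (maximalIdeal A)) hz'
      have h3 : TensorProduct.quotTensorEquivQuotSMul Ω[A⁄k] (maximalIdeal A)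
          ((Submodule.Quotient.mk (1 : A)) ⊗ₜ[A] (ω - c • KaehlerDifferential.D k A s)) =
          Submodule.Quotient.mk ((1 : A) • (ω - c • KaehlerDifferential.D k A s)) :=
        TensorProduct.quotTensorEquivQuotSMul_mk_tmul _ _ _
      rw [one_smul] at h3
      exact (Submodule.Quotient.mk_eq_zero _).1 (h3.symm.trans (h2.trans (map_zero _)))
    refine Submodule.mem_sup.2 ⟨c • KaehlerDifferential.D k A s, ⟨c, rfl⟩, _, hmem, by abel⟩
  haveI : Nonempty (Fin 1) := ⟨0⟩
  obtain ⟨b⟩ : Nonempty (Module.Basis (Fin 1) A Ω[A⁄k]) := ⟨Module.finBasisOfFinrankEq A _ hr⟩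
  let ψ : A →ₗ[A] A := (b.coord 0).comp L
  have hb : Function.Bijective (b.coord 0) := by
    have : (b.coord 0 : Ω[A⁄k] →ₗ[A] A) =
        ((LinearEquiv.funUnique (Fin 1) A A).toLinearMap.comp b.equivFun.toLinearMap) := by
      ext v; simp [Fin.default_eq_zero]
    rw [this]
    exact (LinearEquiv.funUnique (Fin 1) A A).bijective.comp b.equivFun.bijective
  have hψ : Function.Surjective ψ := hb.2.comp hL
  exact ⟨Function.Injective.of_comp (f := b.coord 0)
    (OrzechProperty.injective_of_surjective_endomorphism ψ hψ), hL⟩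

/-- The local ring at a point of a scheme smooth of relative dimension `n` over a field near that point. -/
theorem stalk_of_smooth (k : Type u) [Field k] (X : Scheme.{u}) [X.Over (Spec (CommRingCat.of k))] (x : X)
    (n : ℕ) (U : X.Opens) (hxU : x ∈ U)
    (hsm : SmoothOfRelativeDimension n (U.ι ≫ (X ↘ Spec (CommRingCat.of k)))) :
    letI := Curv2.stalkAlgebra k X x
    Algebra.FormallySmooth k (X.presheaf.stalk x) ∧ Algebra.EssFiniteType k (X.presheaf.stalk x) ∧
      Module.Free (X.presheaf.stalk x) Ω[X.presheaf.stalk x⁄k] ∧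
      Module.finrank (X.presheaf.stalk x) Ω[X.presheaf.stalk x⁄k] = n := by
  haveI := hsm
  let π := X ↘ Spec (CommRingCat.of k)
  obtain ⟨W, hW, V, hV, hxV, e, h⟩ :=
    SmoothOfRelativeDimension.exists_isStandardSmoothOfRelativeDimension (n := n)
      (f := U.ι ≫ π) ⟨x, hxU⟩
  have hWtop : W = ⊤ := eq_top_iff.mpr fun y _ =>
    (Subsingleton.elim (α := PrimeSpectrum k) ((U.ι ≫ π) ⟨x, hxU⟩) y) ▸ e hxV
  subst hWtop
  let V' : X.Opens := U.ι ''ᵁ V
  have hV' : IsAffineOpen V' := hV.image_of_isOpenImmersion U.ι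
  have hxV' : x ∈ V' := ⟨⟨x, hxU⟩, hxV, rfl⟩
  let φ : CommRingCat.of k ⟶ Γ(X, V') :=
    (Scheme.ΓSpecIso (CommRingCat.of k)).inv ≫ π.appLE ⊤ V' le_top
  have hφ : φ.hom.IsStandardSmoothOfRelativeDimension n := by
    have h1 : (U.ι ≫ π).appLE ⊤ V e = π.appLE ⊤ V' le_top ≫ (U.ι.appIso V).hom := by
      rw [Scheme.Hom.appIso_hom', Scheme.Hom.appLE_comp_appLE]
    rw [h1] at h
    have h2 : (π.appLE ⊤ V' le_top).hom.IsStandardSmoothOfRelativeDimension n := by
      have := RingHom.isStandardSmoothOfRelativeDimension_respectsIso.1 _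
        (U.ι.appIso V).symm.commRingCatIsoToRingEquiv h
      convert this using 1
      show _ = (U.ι.appIso V).inv.hom.comp _
      rw [← CommRingCat.hom_comp, Category.assoc, Iso.hom_inv_id, Category.comp_id]
    exact RingHom.isStandardSmoothOfRelativeDimension_respectsIso.2 _
      (Scheme.ΓSpecIso (CommRingCat.of k)).symm.commRingCatIsoToRingEquiv h2
  letI := φ.hom.toAlgebra
  haveI : Algebra.IsStandardSmoothOfRelativeDimension n k Γ(X, V') := hφ
  haveI : Algebra.IsStandardSmooth k Γ(X, V') :=
    Algebra.IsStandardSmoothOfRelativeDimension.isStandardSmooth n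
  letI := Curv2.stalkAlgebra k X x
  letI : Algebra Γ(X, V') (X.presheaf.stalk x) := (X.presheaf.germ V' x hxV').hom.toAlgebra
  haveI : IsScalarTower k Γ(X, V') (X.presheaf.stalk x) := IsScalarTower.of_algebraMap_eq fun r => by
    show X.presheaf.germ ⊤ x trivial (Coh.toGlobal π r) = X.presheaf.germ V' x hxV' (φ r)
    show _ = X.presheaf.germ V' x hxV' (π.appLE ⊤ V' le_top _)
    rw [Scheme.Hom.appLE, CommRingCat.comp_apply, X.presheaf.germ_res_apply]
    rfl
  haveI : IsLocalization.AtPrime (X.presheaf.stalk x) (hV'.primeIdealOf ⟨x, hxV'⟩).asIdeal :=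
    hV'.isLocalization_stalk ⟨x, hxV'⟩
  let M := (hV'.primeIdealOf ⟨x, hxV'⟩).asIdeal.primeCompl
  haveI : Algebra.FormallyEtale Γ(X, V') (X.presheaf.stalk x) :=
    Algebra.FormallyEtale.of_isLocalization M
  haveI : Algebra.EssFiniteType Γ(X, V') (X.presheaf.stalk x) :=
    Algebra.EssFiniteType.of_isLocalization _ M
  haveI : IsLocalization M (X.presheaf.stalk x) := ‹IsLocalization.AtPrime _ _›
  haveI : IsLocalizedModule M (KaehlerDifferential.map k k Γ(X, V') (X.presheaf.stalk x)) :=
    KaehlerDifferential.isLocalizedModule_map k Γ(X, V') (X.presheaf.stalk x) M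
  haveI : Nontrivial Γ(X, V') := (algebraMap Γ(X, V') (X.presheaf.stalk x)).domain_nontrivial
  let b := Module.Free.chooseBasis Γ(X, V') Ω[Γ(X, V')⁄k]
  let b' := b.ofIsLocalizedModule (X.presheaf.stalk x) M
    (KaehlerDifferential.map k k Γ(X, V') (X.presheaf.stalk x))
  refine ⟨Algebra.FormallySmooth.comp k Γ(X, V') _, Algebra.EssFiniteType.comp k Γ(X, V') _,
    Module.Free.of_basis b', ?_⟩
  rw [Module.finrank_eq_card_basis b', ← Module.finrank_eq_card_basis b]
  exact Module.finrank_eq_of_rank_eq
    (Algebra.IsStandardSmoothOfRelativeDimension.rank_kaehlerDifferential n)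

end Groth.Agent.H29Curve
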