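import Groth.Agent.H11Ample.AmpleOn
import Groth.Agent.H22Alg.DimOnePencil
import Groth.Agent.H06Mod.StalkFinite
import Mathlib.RingTheory.UniqueFactorizationDomain.Basic

/-!
# Invertible modules on open subschemes of the spectrum of a unique factorisation domain
-/

set_option autoImplicit false
set_option linter.style.haveILetI false
set_option backward.isDefEq.respectTransparency false

universe u

open CategoryTheory AlgebraicGeometry TopologicalSpace Opposite

namespace Groth.Agent.H29Curve.UFDPic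

section Good

variable {X : Scheme.{u}} [IsIntegral X] (L : X.Modules)

/-- The element of the generic stalk generates near `x`. -/
def Good (g : L.presheaf.stalk (genericPoint X)) (x : X) : Prop :=
  ∃ (V : X.Opens) (hxV : x ∈ V) (s : Γ(L, V)), H11Tilde.IsGen L s ∧
    L.presheaf.germ V (genericPoint X) (H22Alg.DimOnePencil.genericPoint_mem hxV) s = g

variable {L}

theorem exists_good (hL : PicF.IsInvertible L) (x : X) : ∃ g, Good L g x := by
  obtain ⟨V, e, hx, he⟩ := H11Ample.exists_gen hL x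
  exact ⟨_, V, hx, e, he, rfl⟩

theorem Good.exists_smul {g : L.presheaf.stalk (genericPoint X)} {x : X} (h : Good L g x)
    (g' : L.presheaf.stalk (genericPoint X)) :
    ∃ c : X.presheaf.stalk (genericPoint X), g' = c • g := by
  obtain ⟨V, hxV, s, hs, rfl⟩ := h
  obtain ⟨c, hc⟩ := (hs _ (H22Alg.DimOnePencil.genericPoint_mem hxV)).2 g'
  exact ⟨c, hc.symm⟩

theorem Good.smul_injective {g : L.presheaf.stalk (genericPoint X)} {x : X} (h : Good L g x)
    {a b : X.presheaf.stalk (genericPoint X)} (e : a • g = b • g) : a = b := by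
  obtain ⟨V, hxV, s, hs, rfl⟩ := h
  exact (hs _ (H22Alg.DimOnePencil.genericPoint_mem hxV)).1 e

/-- Two generators near `x` differ by a unit at `x`. -/
theorem Good.exists_unit {g g' : L.presheaf.stalk (genericPoint X)} {x : X} (h : Good L g x) (h' : Good L g' x) :
    ∃ c : X.presheaf.stalk x, IsUnit c ∧
      g' = (X.presheaf.stalkSpecializes ((genericPoint_spec X).specializes trivial : genericPoint X ⤳ x)) c • g := by
  obtain ⟨V, hxV, s, hs, rfl⟩ := h
  obtain ⟨V', hxV', s', hs', rfl⟩ := h'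
  let O := V ⊓ V'
  have hO : x ∈ O := ⟨hxV, hxV'⟩
  have hη : genericPoint X ∈ O := H22Alg.DimOnePencil.genericPoint_mem hO
  obtain ⟨a, ha⟩ := H11Ample.exists_coeff (hs.res (inf_le_left : O ≤ V))
    (L.presheaf.map (homOfLE (inf_le_right : O ≤ V')).op s')
  refine ⟨X.presheaf.germ O x hO a, ?_, ?_⟩
  · have e := congrArg (L.presheaf.germ O x hO) ha
    rw [H06Mod.germ_smul, TopCat.Presheaf.germ_res_apply, TopCat.Presheaf.germ_res_apply] at e
    obtain ⟨b, hb⟩ := (hs' x hxV').2 (L.presheaf.germ V x hxV s)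
    have hb' : (b * X.presheaf.germ O x hO a) • L.presheaf.germ V x hxV s =
        (1 : X.presheaf.stalk x) • L.presheaf.germ V x hxV s := by
      rw [mul_smul, one_smul, ← e]; exact hb
    exact IsUnit.of_mul_eq_one _ ((mul_comm _ _).trans ((hs x hxV).1 hb'))
  · have e := congrArg (L.presheaf.germ O (genericPoint X) hη) ha
    rw [H06Mod.germ_smul, TopCat.Presheaf.germ_res_apply, TopCat.Presheaf.germ_res_apply] at e
    refine e.trans ?_
    congr 1
    exact congr($(TopCat.Presheaf.germ_stalkSpecializes X.presheaf hO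
      ((genericPoint_spec X).specializes trivial)) a).symm

/-- Changing a generator by a unit at `x`. -/
theorem Good.smul {g : L.presheaf.stalk (genericPoint X)} {x : X} (h : Good L g x)
    {c : X.presheaf.stalk x} (hc : IsUnit c) :
    Good L ((X.presheaf.stalkSpecializes ((genericPoint_spec X).specializes trivial : genericPoint X ⤳ x)) c • g) x := by
  obtain ⟨V, hxV, s, hs, rfl⟩ := h
  obtain ⟨W, hxW, a, rfl⟩ := X.presheaf.exists_germ_eq c
  let O := V ⊓ X.basicOpen a
  have hO : x ∈ O := ⟨hxV, (X.mem_basicOpen a x hxW).2 hc⟩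
  have hOW : O ≤ W := inf_le_right.trans (X.basicOpen_le a)
  refine ⟨O, hO, X.presheaf.map (homOfLE hOW).op a • L.presheaf.map (homOfLE (inf_le_left : O ≤ V)).op s,
    fun y hy => ?_, ?_⟩
  · have hu : IsUnit (X.presheaf.germ O y hy (X.presheaf.map (homOfLE hOW).op a)) := by
      rw [TopCat.Presheaf.germ_res_apply]
      exact (X.mem_basicOpen a y (hOW hy)).1 hy.2
    rw [show (fun r : X.presheaf.stalk y => r • L.presheaf.germ O y hy
        (X.presheaf.map (homOfLE hOW).op a • L.presheaf.map (homOfLE (inf_le_left : O ≤ V)).op s)) =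
      (fun r => r • L.presheaf.germ V y hy.1 s) ∘ (fun r => r * X.presheaf.germ O y hy (X.presheaf.map (homOfLE hOW).op a))
      from funext fun r => by
        rw [H06Mod.germ_smul, TopCat.Presheaf.germ_res_apply L.presheaf]
        exact (mul_smul _ _ _).symm]
    exact (hs y hy.1).comp ⟨hu.mul_left_injective, fun z => ⟨z * hu.unit⁻¹, by simp [mul_assoc]⟩⟩
  · rw [H06Mod.germ_smul, TopCat.Presheaf.germ_res_apply, TopCat.Presheaf.germ_res_apply]
    congr 1
    exact congr($(TopCat.Presheaf.germ_stalkSpecializes X.presheaf hxW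
      ((genericPoint_spec X).specializes trivial)) a).symm

/-- A generic element generating near every point trivialises the module. -/
theorem nonempty_iso_of_good (hL : PicF.IsInvertible L) (g : L.presheaf.stalk (genericPoint X))
    (h : ∀ x, Good L g x) : Nonempty (L ≅ Coh.structureModule X) := by
  choose V hxV s hs hg using h
  have hcompat : TopCat.Presheaf.IsCompatible L.presheaf V s := fun a b => by
    by_cases hne : ((V a ⊓ V b : X.Opens) : Set X).Nonempty
    · obtain ⟨y, hy⟩ := hne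
      refine H22Alg.DimOnePencil.eq_of_germ_genericPoint hL (H22Alg.DimOnePencil.genericPoint_mem hy) ?_
      erw [TopCat.Presheaf.germ_res_apply, TopCat.Presheaf.germ_res_apply]
      exact (hg a).trans (hg b).symm
    · exact TopCat.Presheaf.section_ext (⟨L.presheaf, L.isSheaf⟩ : TopCat.Sheaf AddCommGrpCat.{u} X.toTopCat)
        _ _ _ fun y hy => absurd ⟨y, hy⟩ hne
  obtain ⟨G, hG, -⟩ := TopCat.Sheaf.existsUnique_gluing'
    (⟨L.presheaf, L.isSheaf⟩ : TopCat.Sheaf AddCommGrpCat.{u} X.toTopCat) V ⊤ (fun a => homOfLE le_top)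
    (fun y _ => Opens.mem_iSup.2 ⟨y, hxV y⟩) s hcompat
  have hgen : H11Tilde.IsGen L G := fun y hy => by
    refine (congrArg Function.Bijective (funext fun r => ?_)).mp (hs y y (hxV y))
    congr 1
    rw [← hG y]
    exact TopCat.Presheaf.germ_res_apply L.presheaf (homOfLE le_top) y (hxV y) G
  haveI := H11Tilde.isIso_homOfGlobal L G fun W => hgen.bijective le_top
  exact ⟨(asIso (H11Tilde.homOfGlobal L G)).symm⟩

end Good

section UFD

variable {R : Type u} [CommRing R] [IsDomain R] {U : (Spec (CommRingCat.of R)).Opens}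

/-- The element of the ring at a stalk. -/
noncomputable def ψ (U : (Spec (CommRingCat.of R)).Opens) (x : U) : R →+* (U : Scheme.{u}).presheaf.stalk x :=
  (U.ι.stalkMap x).hom.comp (StructureSheaf.toStalk R (U.ι x)).hom

theorem isUnit_ψ_iff (x : U) (a : R) : IsUnit (ψ U x a) ↔ a ∉ (U.ι x : PrimeSpectrum R).asIdeal := by
  rw [ψ, RingHom.comp_apply, isUnit_map_iff]
  exact IsLocalization.AtPrime.isUnit_to_map_iff ((Spec.structureSheaf R).presheaf.stalk (U.ι x))
    (U.ι x : PrimeSpectrum R).asIdeal a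

theorem exists_eq_frac (x : U) (z : (U : Scheme.{u}).presheaf.stalk x) :
    ∃ a b : R, b ∉ (U.ι x : PrimeSpectrum R).asIdeal ∧ z * ψ U x b = ψ U x a := by
  obtain ⟨w, rfl⟩ := (asIso (U.ι.stalkMap x)).commRingCatIsoToRingEquiv.surjective z
  obtain ⟨⟨a, b⟩, e⟩ := IsLocalization.surj (U.ι x : PrimeSpectrum R).asIdeal.primeCompl
    (S := (Spec.structureSheaf R).presheaf.stalk (U.ι x)) w
  refine ⟨a, b, b.2, ?_⟩
  exact ((map_mul (U.ι.stalkMap x).hom _ _).symm.trans (congrArg _ e) :)

theorem stalkSpecializes_ψ {x y : U} (h : y ⤳ x) (a : R) :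
    (U : Scheme.{u}).presheaf.stalkSpecializes h (ψ U x a) = ψ U y a := by
  show (U : Scheme.{u}).presheaf.stalkSpecializes h (U.ι.stalkMap x _) = _
  rw [← Scheme.Hom.stalkSpecializes_stalkMap_apply]
  exact congrArg _ congr($(StructureSheaf.toStalk_stalkSpecializes (U.ι.isEmbedding.specializes_iff.2 h)) a)

theorem nonempty_iso [UniqueFactorizationMonoid R] (L : (U : Scheme.{u}).Modules) (hL : PicF.IsInvertible L)
    [Nonempty U] : Nonempty (L ≅ Coh.structureModule (U : Scheme.{u})) := by
  classical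
  haveI : IsIntegral (U : Scheme.{u}) := isIntegral_of_isOpenImmersion U.ι
  let η : U := genericPoint (U : Scheme.{u})
  have hsp : ∀ x : U, η ⤳ x := fun x => (genericPoint_spec (U : Scheme.{u})).specializes trivial
  have hη : (U.ι η : PrimeSpectrum R).asIdeal = ⊥ := by
    rw [show U.ι η = genericPoint (Spec (CommRingCat.of R)) from genericPoint_eq_of_isOpenImmersion U.ι,
      genericPoint_eq_bot_of_affine]
    rfl
  have hinj : ∀ {a b : R}, ψ U η a = ψ U η b → a = b := by
    intro a b e
    by_contra hne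
    have h := (isUnit_ψ_iff η (a - b)).2 (by rw [hη]; simpa [sub_eq_zero] using hne)
    rw [map_sub, e, sub_self] at h
    exact not_isUnit_zero h
  have hu : ∀ {a : R}, a ≠ 0 → IsUnit (ψ U η a) := fun {a} ha => (isUnit_ψ_iff η a).2 (by rw [hη]; simpa using ha)
  -- the prime element `p` as a point of `U`
  let At : R → U → Prop := fun p y => (U.ι y : PrimeSpectrum R).asIdeal = Ideal.span {p}
  -- a unit at the point of a prime element, read at the generic point
  have unit_at : ∀ {p : R}, Prime p → ∀ {y : U}, At p y → ∀ {z : (U : Scheme.{u}).presheaf.stalk y}, IsUnit z →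
      ∃ a b : R, ¬ p ∣ a ∧ ¬ p ∣ b ∧
        (U : Scheme.{u}).presheaf.stalkSpecializes (hsp y) z * ψ U η b = ψ U η a := by
    intro p hp y hy z hz
    obtain ⟨a, b, hb, e⟩ := exists_eq_frac y z
    refine ⟨a, b, fun ha => ?_, fun h => hb (by rw [hy]; exact Ideal.mem_span_singleton.2 h), ?_⟩
    · have h1 : IsUnit (ψ U y a) := e ▸ hz.mul ((isUnit_ψ_iff y b).2 hb)
      exact (isUnit_ψ_iff y a).1 h1 (by rw [hy]; exact Ideal.mem_span_singleton.2 ha)
    · rw [← stalkSpecializes_ψ (hsp y) b, ← map_mul, e, stalkSpecializes_ψ]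
  obtain ⟨g₀, hg₀⟩ := exists_good hL η
  -- the finitely many primes at which `g₀` fails
  obtain ⟨x₀⟩ := (inferInstance : Nonempty U)
  obtain ⟨V, hxV, s₀, hs₀, hgs₀⟩ := hg₀
  obtain ⟨_, ⟨f, rfl⟩, hf, hfV⟩ := PrimeSpectrum.isTopologicalBasis_basic_opens.exists_subset_of_mem_open
    (a := U.ι η) (u := SetLike.coe (U.ι ''ᵁ V)) ⟨η, hxV, rfl⟩ (U.ι ''ᵁ V).isOpen
  have hf0 : f ≠ 0 := fun h => hf (by rw [h]; exact Ideal.zero_mem _)
  have hg₀f : ∀ y : U, f ∉ (U.ι y : PrimeSpectrum R).asIdeal → Good L g₀ y := fun y hy => by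
    obtain ⟨z, hz, e⟩ := hfV hy
    obtain rfl := U.ι.isOpenEmbedding.injective e
    exact ⟨V, hz, s₀, hs₀, hgs₀⟩
  -- adjust the generator at the primes dividing `f`
  have key : ∀ S : Finset R, (∀ p ∈ S, Prime p) →
      ∃ g, g ≠ 0 ∧ ∀ p, Prime p → (¬ p ∣ f ∨ ∃ q ∈ S, Associated p q) → ∀ y, At p y → Good L g y := by
    intro S
    induction S using Finset.induction_on with
    | empty =>
      intro _
      refine ⟨g₀, fun h0 => ?_, fun p hp h y hy => hg₀f y fun hfy => ?_⟩
      · have h01 : (0 : (U : Scheme.{u}).presheaf.stalk η) = 1 :=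
          (hg₀f η (by rw [hη]; simpa using hf0)).smul_injective (by rw [h0, smul_zero, smul_zero])
        exact zero_ne_one h01
      rcases h with h | ⟨q, hq, -⟩
      · exact h (Ideal.mem_span_singleton.1 (hy ▸ hfy))
      · simp at hq
    | @insert q S hqS ih =>
      intro hS
      obtain ⟨g, hg0, hg⟩ := ih fun p hp => hS p (Finset.mem_insert_of_mem hp)
      have hq := hS q (Finset.mem_insert_self q S)
      by_cases hy₁ : ∃ y, At q y
      swap
      · refine ⟨g, hg0, fun p hp h y hy => hg p hp ?_ y hy⟩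
        rcases h with h | ⟨r, hr, hpr⟩
        · exact Or.inl h
        rcases Finset.mem_insert.1 hr with rfl | hr
        · exact absurd ⟨y, hy.trans (Ideal.span_singleton_eq_span_singleton.2 hpr)⟩ hy₁
        · exact Or.inr ⟨r, hr, hpr⟩
      obtain ⟨y₁, hy₁⟩ := hy₁
      by_cases hold : ¬ q ∣ f ∨ ∃ r ∈ S, Associated q r
      · refine ⟨g, hg0, fun p hp h y hy => hg p hp ?_ y hy⟩
        rcases h with h | ⟨r, hr, hpr⟩
        · exact Or.inl h
        rcases Finset.mem_insert.1 hr with rfl | hr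
        · rcases hold with h' | ⟨r', hr', hrr'⟩
          · exact Or.inl fun h => h' (hpr.symm.dvd.trans h)
          · exact Or.inr ⟨r', hr', hpr.trans hrr'⟩
        · exact Or.inr ⟨r, hr, hpr⟩
      obtain ⟨e, he⟩ := exists_good hL y₁
      obtain ⟨c, hc⟩ := he.exists_smul g
      obtain ⟨a, b, hb, hab⟩ := exists_eq_frac η c
      have hb0 : b ≠ 0 := fun h => hb (by rw [h]; exact Ideal.zero_mem _)
      have ha0 : a ≠ 0 := fun ha0 => hg0 (by
        rw [ha0, map_zero] at hab
        rw [hc, (hu hb0).mul_left_eq_zero.1 hab, zero_smul])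
      obtain ⟨n, a', ha', rfl⟩ := WfDvdMonoid.max_power_factor ha0 hq.irreducible
      obtain ⟨m, b', hb', rfl⟩ := WfDvdMonoid.max_power_factor hb0 hq.irreducible
      have hq0 := hq.ne_zero
      obtain ⟨d, hd⟩ := (hu (pow_ne_zero n hq0)).exists_left_inv
      refine ⟨(d * ψ U η (q ^ m)) • g, fun h0 => hg0 (((IsUnit.of_mul_eq_one _ hd).mul (hu (pow_ne_zero m hq0))).smul_eq_zero.1 h0), fun p hp h y hy => ?_⟩
      by_cases hpq : Associated p q
      · obtain rfl : y = y₁ := U.ι.isOpenEmbedding.injective (PrimeSpectrum.ext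
          (hy.trans ((Ideal.span_singleton_eq_span_singleton.2 hpq).trans hy₁.symm)))
        have hbu : IsUnit (ψ U y b') := (isUnit_ψ_iff y b').2 fun h =>
          hb' (Ideal.mem_span_singleton.1 (hy₁ ▸ h))
        obtain ⟨w, hw⟩ := hbu.exists_left_inv
        have hau : IsUnit (ψ U y a') := (isUnit_ψ_iff y a').2 fun h =>
          ha' (Ideal.mem_span_singleton.1 (hy₁ ▸ h))
        convert he.smul ((IsUnit.of_mul_eq_one _ hw).mul hau) using 1
        rw [hc, smul_smul, map_mul, stalkSpecializes_ψ]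
        congr 1
        have hw' := congrArg ((U : Scheme.{u}).presheaf.stalkSpecializes (hsp y)) hw
        rw [map_mul, map_one, stalkSpecializes_ψ] at hw'
        rw [map_mul, map_mul] at hab
        linear_combination ((U : Scheme.{u}).presheaf.stalkSpecializes (hsp y) w * d) * hab -
          (d * ψ U η (q ^ m) * c) * hw' + ((U : Scheme.{u}).presheaf.stalkSpecializes (hsp y) w * ψ U η a') * hd
      · have hgy : Good L g y := hg p hp (by
          rcases h with h | ⟨r, hr, hpr⟩
          · exact Or.inl h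
          rcases Finset.mem_insert.1 hr with rfl | hr
          · exact absurd hpr hpq
          · exact Or.inr ⟨r, hr, hpr⟩) y hy
        have hpn : ∀ k, IsUnit (ψ U y (q ^ k)) := fun k => (isUnit_ψ_iff y _).2 fun h =>
          hpq (hp.associated_of_dvd hq (hp.dvd_of_dvd_pow (Ideal.mem_span_singleton.1 (hy ▸ h))))
        obtain ⟨w, hw⟩ := (hpn n).exists_left_inv
        convert hgy.smul ((IsUnit.of_mul_eq_one _ hw).mul (hpn m)) using 2
        rw [map_mul, stalkSpecializes_ψ]
        congr 1
        have hw' := congrArg ((U : Scheme.{u}).presheaf.stalkSpecializes (hsp y)) hw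
        rw [map_mul, map_one, stalkSpecializes_ψ] at hw'
        linear_combination (-d) * hw' + ((U : Scheme.{u}).presheaf.stalkSpecializes (hsp y) w) * hd
  obtain ⟨g, hg0, hg⟩ := key (UniqueFactorizationMonoid.factors f).toFinset fun p hp =>
    UniqueFactorizationMonoid.prime_of_factor p (Multiset.mem_toFinset.1 hp)
  have hgood : ∀ p, Prime p → ∀ y, At p y → Good L g y := fun p hp => hg p hp (by
    by_cases h : p ∣ f
    · obtain ⟨q, hq, hpq⟩ := UniqueFactorizationMonoid.exists_mem_factors_of_dvd hf0 hp.irreducible h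
      exact Or.inr ⟨q, Multiset.mem_toFinset.2 hq, hpq⟩
    · exact Or.inl h)
  refine nonempty_iso_of_good hL g fun x => ?_
  obtain ⟨e, he⟩ := exists_good hL x
  obtain ⟨c, hc⟩ := he.exists_smul g
  obtain ⟨a, b, hb, hab⟩ := exists_eq_frac η c
  have hb0 : b ≠ 0 := fun h => hb (by rw [h]; exact Ideal.zero_mem _)
  obtain ⟨a, b, d, hrel, rfl, rfl⟩ := UniqueFactorizationMonoid.exists_reduced_factors' a b hb0
  have hd0 : d ≠ 0 := left_ne_zero_of_mul hb0
  have hb0' : b ≠ 0 := right_ne_zero_of_mul hb0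
  rw [map_mul, map_mul, ← mul_assoc, mul_comm c, mul_assoc] at hab
  have hab' : c * ψ U η b = ψ U η a := (hu hd0).mul_left_cancel hab
  -- a prime through `x` dividing the numerator or the denominator is impossible
  have hval : ∀ p, Prime p → p ∈ (U.ι x : PrimeSpectrum R).asIdeal → (p ∣ a ↔ p ∣ b) := by
    intro p hp hpx
    have hspan : (Ideal.span {p}).IsPrime := (Ideal.span_singleton_prime hp.ne_zero).2 hp
    let P : PrimeSpectrum R := ⟨Ideal.span {p}, hspan⟩
    have hPx : P ⤳ U.ι x := (PrimeSpectrum.le_iff_specializes P (U.ι x)).1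
      ((Ideal.span_singleton_le_iff_mem _).2 hpx)
    let y : U := ⟨P, hPx.mem_open U.2 x.2⟩
    have hyx : y ⤳ x := (U.ι.isEmbedding.specializes_iff).1 hPx
    have hy : At p y := rfl
    have hey : Good L e y := by
      obtain ⟨W, hxW, s, hs, hgs⟩ := he
      exact ⟨W, hyx.mem_open W.2 hxW, s, hs, hgs⟩
    obtain ⟨z, hz, hez⟩ := hey.exists_unit (hgood p hp y hy)
    have hzc := hey.smul_injective (hez.symm.trans hc)
    obtain ⟨a₁, b₁, ha₁, hb₁, e₁⟩ := unit_at hp hy hz
    rw [hzc] at e₁
    have heq : a * b₁ = a₁ * b := hinj (by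
      rw [map_mul, map_mul]
      linear_combination (-ψ U η b₁) * hab' + ψ U η b * e₁)
    constructor
    · intro h
      exact (hp.dvd_or_dvd (heq ▸ dvd_mul_of_dvd_left h b₁)).resolve_left ha₁
    · intro h
      exact (hp.dvd_or_dvd (heq ▸ dvd_mul_of_dvd_right h a₁ : p ∣ a * b₁)).resolve_right hb₁
  have havoid : a ∉ (U.ι x : PrimeSpectrum R).asIdeal ∧ b ∉ (U.ι x : PrimeSpectrum R).asIdeal := by
    have main : ∀ t : R, t ≠ 0 → t ∈ (U.ι x : PrimeSpectrum R).asIdeal →
        ∃ p, Prime p ∧ p ∈ (U.ι x : PrimeSpectrum R).asIdeal ∧ p ∣ t := fun t ht0 ht => by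
      haveI := (U.ι x : PrimeSpectrum R).2
      obtain ⟨v, hv⟩ := UniqueFactorizationMonoid.factors_prod ht0
      have : (UniqueFactorizationMonoid.factors t).prod ∈ (U.ι x : PrimeSpectrum R).asIdeal := by
        rw [← hv] at ht
        exact (Ideal.IsPrime.mem_or_mem inferInstance ht).resolve_right fun hv' =>
          (inferInstance : (U.ι x : PrimeSpectrum R).asIdeal.IsPrime).ne_top
            (Ideal.eq_top_of_isUnit_mem _ hv' v.isUnit)
      obtain ⟨p, hp, hpx⟩ := (Ideal.IsPrime.multiset_prod_mem_iff_exists_mem inferInstance _).1 this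
      exact ⟨p, UniqueFactorizationMonoid.prime_of_factor p hp, hpx, UniqueFactorizationMonoid.dvd_of_mem_factors hp⟩
    have hab0 : a ≠ 0 := fun ha0 => hg0 (by
      rw [ha0, map_zero] at hab'
      rw [hc, (hu hb0').mul_left_eq_zero.1 hab', zero_smul])
    refine ⟨fun h => ?_, fun h => ?_⟩
    · obtain ⟨p, hp, hpx, hpa⟩ := main a hab0 h
      exact hp.not_isUnit (hrel hpa ((hval p hp hpx).1 hpa))
    · obtain ⟨p, hp, hpx, hpb⟩ := main b hb0' h
      exact hp.not_isUnit (hrel ((hval p hp hpx).2 hpb) hpb)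
  obtain ⟨w, hw⟩ := ((isUnit_ψ_iff x b).2 havoid.2).exists_left_inv
  convert he.smul ((IsUnit.of_mul_eq_one _ hw).mul ((isUnit_ψ_iff x a).2 havoid.1)) using 1
  rw [hc, map_mul, stalkSpecializes_ψ]
  congr 1
  have hw' := congrArg ((U : Scheme.{u}).presheaf.stalkSpecializes (hsp x)) hw
  rw [map_mul, map_one, stalkSpecializes_ψ] at hw'
  linear_combination ((U : Scheme.{u}).presheaf.stalkSpecializes (hsp x) w) * hab' - c * hw'

end UFD

end Groth.Agent.H29Curve.UFDPic
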