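import Groth.Agent.H22Alg.DimOnePencil
import Groth.Agent.H8Props.FlatDimOneBase
import Groth.Agent.S7660
import Groth.Agent.S7662
import Groth.Agent.S7663
import Groth.Agent.S7665
import Groth.Agent.S9802

/-!
# Affine neighbourhoods of finitely many points of codimension at most one
-/

set_option autoImplicit false
set_option linter.style.haveILetI false

universe u

open CategoryTheory CategoryTheory.Limits AlgebraicGeometry TopologicalSpace IsLocalRing
open Groth.Agent.H22Alg.DimOnePencil

namespace Groth.Agent.H29Curve.AffineNhd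

theorem isIso_stalkMap_fromSpecStalk {Z : Scheme.{u}} (x : Z) (y : Spec (Z.presheaf.stalk x))
    (hy : y = closedPoint (Z.presheaf.stalk x)) : IsIso ((Z.fromSpecStalk x).stalkMap y) := by
  subst hy
  have h : IsIso (Scheme.stalkClosedPointTo (Z.fromSpecStalk x)) := by
    rw [Scheme.stalkClosedPointTo_fromSpecStalk]
    infer_instance
  rw [Scheme.stalkClosedPointTo] at h
  exact @IsIso.of_isIso_comp_right _ _ _ _ _ _ (stalkClosedPointIso (Z.presheaf.stalk x)).hom _ h

theorem isIso_stalkMap_SpecMap_fromSpecStalk {Z : Scheme.{u}} {R : CommRingCat.{u}} [IsLocalRing R] (x : Z)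
    (φ : Z.presheaf.stalk x ⟶ R) [IsIso φ] :
    IsIso ((Spec.map φ ≫ Z.fromSpecStalk x).stalkMap (closedPoint R)) := by
  rw [Scheme.Hom.stalkMap_comp]
  haveI : IsLocalHom φ.hom := inferInstance
  haveI := isIso_stalkMap_fromSpecStalk x ((Spec.map φ) (closedPoint R)) Spec_closedPoint
  exact IsIso.comp_isIso' this inferInstance

theorem exists_affine_of_dim_one {Z : Scheme.{u}} [IsIntegral Z] [Z.IsSeparated] {r : ℕ} (hr : 1 ≤ r)
    (p : Fin r → Z) (hp : Function.Injective p)
    (hloc : ∀ i, IsNoetherianRing (Z.presheaf.stalk (p i)) ∧ ringKrullDim (Z.presheaf.stalk (p i)) = 1) :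
    ∃ U : Z.Opens, IsAffineOpen U ∧ ∀ i, p i ∈ U := by
  classical
  let A : Fin r → Subring Z.functionField := fun i => Bx (p i)
  haveI hN : ∀ i, IsNoetherianRing (A i) := fun i =>
    haveI := (hloc i).1
    isNoetherianRing_of_ringEquiv _ (eqBx (p i))
  haveI hF : ∀ i, IsFractionRing (A i) Z.functionField := fun i => isFractionRing_Bx (p i)
  haveI hL : ∀ i, IsLocalRing (A i) := fun i => (eqBx (p i)).isLocalRing
  have hdim : ∀ i, ringKrullDim (A i) = 1 := fun i =>
    (ringKrullDim_eq_of_ringEquiv (eqBx (p i))).symm.trans (hloc i).2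
  have hsl : ∀ i, Finite (MaximalSpectrum (A i)) := fun i => inferInstance
  haveI hD1 : ∀ i, Ring.KrullDimLE 1 (Z.presheaf.stalk (p i)) := fun i =>
    Ring.krullDimLE_iff.mpr (by rw [(hloc i).2]; rfl)
  have hgen : ∀ i j, i ≠ j → A i ⊔ A j = ⊤ := by
    intro i j hij
    have key : ∀ a b, (¬ p a ⤳ p b) → A a ⊔ A b = ⊤ := fun a b h => by
      obtain ⟨O, hO, hb, ha⟩ := (not_specializes_iff_exists_open).1 h
      obtain ⟨U, hU, hbU, hUO⟩ := exists_isAffineOpen_mem_and_subset (x := p b) (U := ⟨O, hO⟩) hb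
      haveI : Nonempty U := ⟨⟨_, hbU⟩⟩
      refine eq_top_iff.2 ((sup_eq_top hU (x := p a) fun h' => ha (hUO h')).ge.trans (sup_le ?_ le_sup_left))
      refine le_trans ?_ le_sup_right
      rintro _ ⟨g, rfl⟩
      exact ⟨Z.presheaf.germ U (p b) hbU g, congr($(TopCat.Presheaf.germ_stalkSpecializes Z.presheaf hbU
        ((genericPoint_spec Z).specializes trivial)) g)⟩
    by_cases h1 : p i ⤳ p j
    · by_cases h2 : p j ⤳ p i
      · exact absurd (hp (h1.antisymm h2).eq) hij
      · rw [sup_comm]; exact key j i h2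
    · exact key i j h1
  obtain ⟨-, -, -, hFR, hop, hcov, -⟩ := S7665.result Z.functionField r hr A hdim hsl hgen
  let T := Spec (CommRingCat.of ↥(⨅ i, A i))
  let ι : ∀ i, Spec (CommRingCat.of (A i)) ⟶ T := fun i =>
    Spec.map (CommRingCat.ofHom (Subring.inclusion (iInf_le A i)))
  let φ : ∀ i, Z.presheaf.stalk (p i) ⟶ CommRingCat.of (A i) := fun i =>
    CommRingCat.ofHom (eqBx (p i)).toRingHom
  haveI hφ : ∀ i, IsIso (φ i) := fun i =>
    (eqBx (p i)).toCommRingCatIso.isIso_hom
  let g : ∀ i, Spec (CommRingCat.of (A i)) ⟶ Z := fun i => Spec.map (φ i) ≫ Z.fromSpecStalk (p i)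
  let η : ∀ i, Spec (CommRingCat.of Z.functionField) ⟶ Spec (CommRingCat.of (A i)) := fun i =>
    Spec.map (CommRingCat.ofHom (A i).subtype)
  have hηg : ∀ i, η i ≫ g i = Z.fromSpecStalk (genericPoint Z) := fun i => by
    rw [← Scheme.SpecMap_stalkSpecializes_fromSpecStalk
      ((genericPoint_spec Z).specializes trivial : genericPoint Z ⤳ p i), ← Category.assoc, ← Spec.map_comp]
    rfl
  let ηT : Spec (CommRingCat.of Z.functionField) ⟶ T := Spec.map (CommRingCat.ofHom (⨅ i, A i).subtype)
  have hηι : ∀ i, η i ≫ ι i = ηT := fun i => by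
    rw [← Spec.map_comp]
    rfl
  have hηTdom : ∀ z, ηT z = genericPoint T := fun z => by
    rw [show genericPoint T = (⟨⊥, Ideal.isPrime_bot⟩ : PrimeSpectrum ↥(⨅ i, A i)) from
      genericPoint_eq_bot_of_affine _]
    refine PrimeSpectrum.ext ?_
    show Ideal.comap (⨅ i, A i).subtype z.asIdeal = ⊥
    rw [(Ideal.eq_bot_or_top z.asIdeal).resolve_right z.2.ne_top]
    exact (RingHom.injective_iff_ker_eq_bot _).1 Subtype.val_injective
  haveI : IsDominant ηT := ⟨by
    refine dense_iff_closure_eq.2 (Set.eq_univ_of_univ_subset ?_)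
    rw [← (genericPoint_spec T : closure {genericPoint T} = Set.univ)]
    exact closure_mono (Set.singleton_subset_iff.2 ⟨Classical.arbitrary _, hηTdom _⟩)⟩
  let 𝒰 : T.OpenCover := Scheme.Cover.mkOfCovers (Fin r) (fun i => Spec (CommRingCat.of (A i))) ι
    (fun x => by
      have := hcov.symm ▸ Set.mem_univ x
      obtain ⟨i, y, hy⟩ := Set.mem_iUnion.1 this
      exact ⟨i, y, hy⟩) hop
  have hagree : ∀ i j, pullback.fst (ι i) (ι j) ≫ g i = pullback.snd (ι i) (ι j) ≫ g j := fun i j => by
    haveI : IsOpenImmersion (ι i) := hop i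
    haveI : IsOpenImmersion (ι j) := hop j
    let w : pullback (ι i) (ι j) ⟶ T := pullback.fst _ _ ≫ ι i
    let l : Spec (CommRingCat.of Z.functionField) ⟶ pullback (ι i) (ι j) :=
      pullback.lift (η i) (η j) ((hηι i).trans (hηι j).symm)
    haveI : IsReduced (pullback (ι i) (ι j)) := isReduced_of_isOpenImmersion w
    haveI : IsDominant l := ⟨by
      have hl : l ≫ w = ηT := by rw [pullback.lift_fst_assoc]; exact hηι i
      intro y
      rw [w.isOpenEmbedding.isEmbedding.isInducing.closure_eq_preimage_closure_image]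
      show w y ∈ closure (w '' Set.range l)
      rw [← Set.range_comp]
      have : (w ∘ l : _ → T) = ηT := by
        rw [← hl]; rfl
      erw [this]
      exact ηT.denseRange _⟩
    refine ext_of_isDominant l ?_
    rw [pullback.lift_fst_assoc, pullback.lift_snd_assoc, hηg, hηg]
  let f : T ⟶ Z := Scheme.Cover.glueMorphisms 𝒰 g hagree
  have hf : ∀ i, ι i ≫ f = g i := fun i => Scheme.Cover.ι_glueMorphisms 𝒰 g hagree i
  have hTgen : ∀ a : T, closure ({a} : Set T) ∈ irreducibleComponents (T : Type u) → a = genericPoint T :=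
    fun a ha => by
      have h := irreducibleComponents_eq_singleton (X := T)
      rw [h, Set.mem_singleton_iff] at ha
      exact (show IsGenericPoint a Set.univ from ha).eq (genericPoint_spec T)
  have hfgen : f (genericPoint T) = genericPoint Z := by
    let i₀ : Fin r := ⟨0, hr⟩
    obtain ⟨z⟩ : Nonempty (Spec (CommRingCat.of Z.functionField)) := inferInstance
    rw [← hηTdom z, ← hηι i₀, ← Scheme.Hom.comp_apply, Category.assoc, hf, hηg]
    have hz : z = closedPoint Z.functionField := Subsingleton.elim _ _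
    rw [hz]
    exact Scheme.fromSpecStalk_closedPoint
  obtain ⟨U, hU, hUs⟩ := S7660.result f
    (by rw [irreducibleComponents_eq_singleton (X := Z)]; exact Set.finite_singleton _)
    (fun a ha => by
      rw [hTgen a ha, hfgen, (genericPoint_spec Z : closure {genericPoint Z} = Set.univ),
        irreducibleComponents_eq_singleton]
      rfl)
    (fun a b ha hb _ => (hTgen a ha).trans (hTgen b hb).symm)
    (Finset.univ.image fun i => ι i (closedPoint (A i)))
    (fun t ht => by
      obtain ⟨i, -, rfl⟩ := Finset.mem_image.1 ht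
      haveI : IsOpenImmersion (ι i) := hop i
      have h1 : IsIso ((ι i ≫ f).stalkMap (closedPoint (A i))) := by
        rw [hf]; exact isIso_stalkMap_SpecMap_fromSpecStalk (p i) (φ i)
      rw [Scheme.Hom.stalkMap_comp] at h1
      exact @IsIso.of_isIso_comp_right _ _ _ _ _ _ ((ι i).stalkMap (closedPoint (A i))) _ h1)
  refine ⟨U, hU, fun i => ?_⟩
  have h := hUs _ (Finset.mem_image_of_mem _ (Finset.mem_univ i))
  rw [← Scheme.Hom.comp_apply, hf, Scheme.Hom.comp_apply] at h
  haveI : IsLocalHom (φ i).hom := isLocalHom_of_isIso (φ i)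
  erw [Spec_closedPoint, Scheme.fromSpecStalk_closedPoint] at h
  exact h

theorem exists_affine_integral {Z : Scheme.{u}} [IsIntegral Z] [Z.IsSeparated] (s : Finset Z)
    (hs : ∀ x ∈ s, IsNoetherianRing (Z.presheaf.stalk x) ∧ ringKrullDim (Z.presheaf.stalk x) ≤ 1) :
    ∃ U : Z.Opens, IsAffineOpen U ∧ ∀ x ∈ s, x ∈ U := by
  classical
  let s' := s.erase (genericPoint Z)
  have hgenmem : ∀ {U : Z.Opens} {y : Z}, y ∈ U → genericPoint Z ∈ U := fun {U y} hy =>
    ((genericPoint_spec Z).specializes trivial).mem_open U.2 hy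
  suffices ∃ U : Z.Opens, IsAffineOpen U ∧ (∃ y, y ∈ U) ∧ ∀ x ∈ s', x ∈ U by
    obtain ⟨U, hU, ⟨y, hy⟩, h⟩ := this
    refine ⟨U, hU, fun x hx => ?_⟩
    by_cases e : x = genericPoint Z
    · exact e ▸ hgenmem hy
    · exact h x (Finset.mem_erase.2 ⟨e, hx⟩)
  rcases s'.eq_empty_or_nonempty with he | hne
  · obtain ⟨U, hU, hy, -⟩ := exists_isAffineOpen_mem_and_subset (x := genericPoint Z) (U := ⊤) trivial
    exact ⟨U, hU, ⟨_, hy⟩, by simp [he]⟩
  · let p : Fin s'.card → Z := fun i => (s'.equivFin.symm i : Z)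
    obtain ⟨U, hU, hUp⟩ := exists_affine_of_dim_one (Finset.card_pos.2 hne) p
      (Subtype.val_injective.comp s'.equivFin.symm.injective) (fun i => by
        obtain ⟨hne', hmem⟩ := Finset.mem_erase.1 (s'.equivFin.symm i).2
        refine ⟨(hs _ hmem).1, le_antisymm (hs _ hmem).2 ?_⟩
        have hnf : ¬ IsField (Z.presheaf.stalk (p i)) := fun h =>
          H8Props.FlatDimOneBase.maximalIdeal_stalk_ne_bot (p i) hne'
            (isField_iff_maximalIdeal_eq.1 h)
        by_contra hlt
        rw [not_le] at hlt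
        haveI : Ring.KrullDimLE 0 (Z.presheaf.stalk (p i)) :=
          Ring.krullDimLE_iff.mpr (by
            revert hlt
            cases ringKrullDim (Z.presheaf.stalk (p i)) with
            | bot => simp
            | coe n =>
              intro hlt
              have : n < 1 := by exact_mod_cast hlt
              exact_mod_cast (Order.lt_one_iff.1 this).le)
        exact hnf Ring.KrullDimLE.isField_of_isReduced)
    obtain ⟨x, hx⟩ := hne
    have hall : ∀ x ∈ s', x ∈ U := fun x hx => by
      have h := hUp (s'.equivFin ⟨x, hx⟩)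
      simpa [p] using h
    exact ⟨U, hU, ⟨x, hall x hx⟩, hall⟩

theorem exists_affine {X : Scheme.{u}} [X.IsSeparated] (hfin : (irreducibleComponents (X : Type u)).Finite)
    (s : Finset X) (hs : ∀ x ∈ s, IsNoetherianRing (X.presheaf.stalk x) ∧ ringKrullDim (X.presheaf.stalk x) ≤ 1) :
    ∃ U : X.Opens, IsAffineOpen U ∧ ∀ x ∈ s, x ∈ U := by
  classical
  refine S7662.result X hfin s fun W hW => ?_
  have hc := isClosed_of_mem_irreducibleComponents W hW
  obtain ⟨w, hw⟩ := QuasiSober.sober hW.1 hc
  let I := Scheme.IdealSheafData.vanishingIdeal (⟨W, hc⟩ : Closeds X)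
  haveI : IsIntegral I.subscheme := (S9802.isIntegral_vanishingIdeal W hc w hw).1
  haveI : IsSeparated (terminal.from X) := Scheme.IsSeparated.isSeparated_terminal_from
  haveI : I.subscheme.IsSeparated := ⟨by
    rw [terminal.hom_ext (terminal.from _) (I.subschemeι ≫ terminal.from X)]
    infer_instance⟩
  obtain ⟨V, hV, hVs⟩ := exists_affine_integral
    ((s.preimage I.subschemeι I.subschemeι.isEmbedding.injective.injOn)) (fun z hz => by
      obtain ⟨h1, h2⟩ := hs _ (Finset.mem_preimage.1 hz)
      have hsur : Function.Surjective (I.subschemeι.stalkMap z).hom := I.subschemeι.stalkMap_surjective z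
      exact ⟨isNoetherianRing_of_surjective _ _ _ hsur, (ringKrullDim_le_of_surjective _ hsur).trans h2⟩)
  refine ⟨V, hV, fun t ht htW => ?_⟩
  have hr : t ∈ Set.range I.subschemeι := by
    rw [Scheme.IdealSheafData.range_subschemeι]
    simpa [I] using htW
  obtain ⟨z, rfl⟩ := hr
  exact ⟨z, hVs z (Finset.mem_preimage.2 ht), rfl⟩

end Groth.Agent.H29Curve.AffineNhd
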