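import Groth.Agent.H29RR.Degree
import Groth.Agent.H25Par.FiniteSupport
import Groth.Agent.H10Coh.Support
import Groth.Agent.H10Coh.AffinePush
import Groth.Agent.H10Coh.FinType2
import Groth.Agent.H28Int.Push

/-!
# First cohomology along maps with finitely supported cokernel on curves
-/

set_option autoImplicit false
set_option linter.style.haveILetI false

universe u

open CategoryTheory CategoryTheory.Limits AlgebraicGeometry TopologicalSpace Opposite

namespace Groth.Agent.H29Curve.GenusPush

attribute [local instance 10000] H10Coh.hasSheafifyAb H10Coh.hasWeakSheafifyAb H10Coh.hasExtAb H10Coh.enoughInjAb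

variable {X : Scheme.{u}}

/-- The complement of a dense open of a space of dimension at most one has dimension at most zero. -/
theorem dim_compl_le_zero [IsNoetherian X] (hdim : topologicalKrullDim X ≤ 1) (U : X.Opens)
    (hU : Dense (U : Set X)) : topologicalKrullDim ((U : Set X)ᶜ : Set X) ≤ 0 := by
  refine iSup_le fun s => ?_
  by_contra hlt
  push Not at hlt
  have hlen : 0 < s.length := by exact_mod_cast hlt
  let T := ((U : Set X)ᶜ : Set X)
  have hT : IsClosed T := U.2.isClosed_compl
  let i₀ : Fin (s.length + 1) := ⟨0, by omega⟩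
  let i₁ : Fin (s.length + 1) := ⟨1, by omega⟩
  let im : IrreducibleCloseds T → IrreducibleCloseds X := fun A =>
    ⟨Subtype.val '' (A : Set T), A.isIrreducible'.image _ continuous_subtype_val.continuousOn,
      hT.isClosedEmbedding_subtypeVal.isClosedMap _ A.isClosed'⟩
  have hlt01 : im (s i₀) < im (s i₁) := by
    have h : s i₀ < s i₁ := s.strictMono (by simp [i₀, i₁, Fin.lt_def])
    refine lt_of_le_of_ne (Set.image_mono (SetLike.coe_subset_coe.2 h.le)) fun e => h.ne (IrreducibleCloseds.ext ?_)
    exact Set.image_injective.2 Subtype.val_injective (congrArg (fun A : IrreducibleCloseds X => (A : Set X)) e)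
  obtain ⟨Z, hZ, hsub⟩ := exists_mem_irreducibleComponents_subset_of_isIrreducible
    (im (s i₁) : Set X) (im (s i₁)).isIrreducible'
  let Z' : IrreducibleCloseds X := ⟨Z, hZ.1, isClosed_of_mem_irreducibleComponents Z hZ⟩
  have hlt12 : im (s i₁) < Z' := by
    refine lt_of_le_of_ne hsub fun e => ?_
    have hZT : Z ⊆ T := by
      rw [show Z = Subtype.val '' ((s i₁ : IrreducibleCloseds T) : Set T) from
        (congrArg (fun A : IrreducibleCloseds X => (A : Set X)) e).symm]
      rintro _ ⟨a, -, rfl⟩
      exact a.2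
    have hcl : IsClosed (⋃₀ (irreducibleComponents (X : Type u) \ {Z})) := by
      rw [Set.sUnion_eq_biUnion]
      exact ((NoetherianSpace.finite_irreducibleComponents).sdiff).isClosed_biUnion
        fun W hW => isClosed_of_mem_irreducibleComponents W hW.1
    obtain ⟨y, hy, hyU⟩ := hU.inter_open_nonempty _ hcl.isOpen_compl (by
      by_contra hne
      rw [Set.not_nonempty_iff_eq_empty, Set.compl_empty_iff] at hne
      obtain ⟨z, hz⟩ := QuasiSober.sober hZ.1 (isClosed_of_mem_irreducibleComponents Z hZ)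
      obtain ⟨W, ⟨hW, hWne⟩, hzW⟩ := hne.ge (Set.mem_univ z)
      refine hWne (hZ.eq_of_subset hW.1 ?_).symm
      rw [← (hz : closure {z} = Z)]
      exact closure_minimal (Set.singleton_subset_iff.2 hzW) (isClosed_of_mem_irreducibleComponents W hW))
    have hyZ : y ∈ Z := by
      by_contra h
      exact hy ⟨irreducibleComponent y, ⟨irreducibleComponent_mem_irreducibleComponents y,
        fun e => h (e ▸ mem_irreducibleComponent)⟩, mem_irreducibleComponent⟩
    exact hZT hyZ hyU
  let t : LTSeries (IrreducibleCloseds X) :=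
    RelSeries.fromListIsChain [im (s i₀), im (s i₁), Z'] (by simp)
      (List.isChain_cons_cons.mpr ⟨hlt01, List.isChain_cons_cons.mpr ⟨hlt12, List.isChain_singleton _⟩⟩)
  have := (Order.LTSeries.length_le_krullDim t).trans hdim
  norm_cast at this

theorem dim_mono {A B : Set X} (h : A ⊆ B) : topologicalKrullDim A ≤ topologicalKrullDim B :=
  ((Topology.IsEmbedding.inclusion h).isInducing).topologicalKrullDim_le

variable {k : Type u} [Field k] [X.Over (Spec (CommRingCat.of k))]

/-- A map with finitely supported cokernel is surjective on first cohomology of a curve. -/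
theorem surjective_hhlin_one [IsNoetherian X] (hdim : topologicalKrullDim X ≤ 1) {F G : X.Modules}
    (φ : F ⟶ G) (hC : Coh.IsCoh (cokernel φ)) (hd : topologicalKrullDim (CohB1.support (cokernel φ)) ≤ 0) :
    Function.Surjective (Canon.HHlin k φ 1) := by
  let p : F ⟶ Abelian.coimage φ := Abelian.coimage.π φ
  let j : Abelian.coimage φ ⟶ G := Abelian.factorThruCoimage φ
  have hfac : p ≫ j = φ := Abelian.coimage.fac φ
  have hS₁ : (ShortComplex.mk (kernel.ι φ) p (cokernel.condition _)).ShortExact :=
    { exact := ShortComplex.exact_cokernel _ }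
  have hS₂ : (ShortComplex.mk j (cokernel.π j) (cokernel.condition j)).ShortExact :=
    { exact := ShortComplex.exact_cokernel _ }
  haveI : Subsingleton (Coh.HH X (kernel φ) 2) :=
    LeadVan.subsingleton_H_of_dim_le 1 (by exact_mod_cast hdim) _ 2 (by omega)
  let e : cokernel j ≅ cokernel φ := (cokernelEpiComp p j).symm ≪≫ cokernelIsoOfEq hfac
  haveI : Subsingleton (Coh.HH X (cokernel j) 1) :=
    H25Par.subsingleton_HH_of_dim_support_le_zero (H10Coh.isCoh_of_iso e.symm hC)
      ((dim_mono (LeadDev.support_subset_of_iso e)).trans hd) Nat.one_pos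
  intro x
  obtain ⟨y, hy⟩ := Abelian.Ext.covariant_sequence_exact₂ _ (H10Coh.shortExact_sh hS₂) x
    (@Subsingleton.elim (Coh.HH X (cokernel j) 1) _ _ _)
  obtain ⟨z, hz⟩ := Abelian.Ext.covariant_sequence_exact₃ _ (H10Coh.shortExact_sh hS₁) y (n₁ := 2) rfl
    (@Subsingleton.elim (Coh.HH X (kernel φ) 2) _ _ _)
  refine ⟨z, ?_⟩
  refine Eq.trans ?_ hy
  rw [← hz]
  show Sheaf.H.map ((SheafOfModules.toSheaf X.ringCatSheaf).map φ) 1 z =
    Sheaf.H.map ((SheafOfModules.toSheaf X.ringCatSheaf).map j) 1
      (Sheaf.H.map ((SheafOfModules.toSheaf X.ringCatSheaf).map p) 1 z)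
  rw [← Sheaf.H.map_comp_apply, ← Functor.map_comp]
  exact congrArg (fun ψ : F ⟶ G => Sheaf.H.map ((SheafOfModules.toSheaf X.ringCatSheaf).map ψ) 1 z) hfac.symm

/-- The unit `O_X ⟶ f_* O_Y`. -/
noncomputable abbrev unitMap {Y : Scheme.{u}} (f : Y ⟶ X) :
    Coh.structureModule X ⟶ (Coh.push f).obj (Coh.structureModule Y) :=
  SheafOfModules.unitToPushforwardObjUnit _

theorem support_cokernel_unitMap_subset {Y : Scheme.{u}} (f : Y ⟶ X) (U : X.Opens) [IsClosedImmersion (f ∣_ U)] :
    CohB1.support (cokernel (unitMap f)) ⊆ (U : Set X)ᶜ := by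
  intro x hx hxU
  refine hx (H10Coh.subsingleton_stalk_cokernel _ x fun a => ?_)
  obtain ⟨W, hxW, t, rfl⟩ := TopCat.Presheaf.exists_germ_eq ((Coh.push f).obj (Coh.structureModule Y)).presheaf a
  obtain ⟨V, hV, hxV, hVWU⟩ := exists_isAffineOpen_mem_and_subset (X := X) (x := x) (U := W ⊓ U) ⟨hxW, hxU⟩
  have hVU : V ≤ U := hVWU.trans inf_le_right
  have hsurj : Function.Surjective (f.app V) := by
    have e : U.ι ''ᵁ U.ι ⁻¹ᵁ V = V := by
      rw [Scheme.Hom.image_preimage_eq_opensRange_inf, Scheme.Opens.opensRange_ι]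
      exact inf_eq_right.mpr hVU
    have hV' : IsAffineOpen (U.ι ⁻¹ᵁ V) := hV.preimage_of_isOpenImmersion U.ι (by rwa [Scheme.Opens.opensRange_ι])
    refine (congrArg (fun W => Function.Surjective (f.app W)) e).mp ?_
    intro b
    obtain ⟨c, hc⟩ := (f ∣_ U).app_surjective (U.ι ⁻¹ᵁ V) hV'
      (Y.presheaf.map (eqToHom (image_morphismRestrict_preimage f U (U.ι ⁻¹ᵁ V))).op b)
    refine ⟨c, ?_⟩
    rw [morphismRestrict_app] at hc
    exact (ConcreteCategory.bijective_of_isIso
      (Y.presheaf.map (eqToHom (image_morphismRestrict_preimage f U (U.ι ⁻¹ᵁ V))).op)).1 hc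
  obtain ⟨c, hc⟩ := hsurj (Y.presheaf.map (homOfLE (Scheme.Hom.preimage_mono f (hVWU.trans inf_le_left))).op t)
  refine ⟨(Coh.structureModule X).presheaf.germ V x hxV c, ?_⟩
  refine (TopCat.Presheaf.stalkFunctor_map_germ_apply V x hxV (unitMap f).mapPresheaf c).trans ?_
  refine Eq.trans ?_ (TopCat.Presheaf.germ_res_apply ((Coh.push f).obj (Coh.structureModule Y)).presheaf
    (homOfLE (hVWU.trans inf_le_left)) x hxV t)
  exact congrArg _ hc

theorem isCoh_cokernel_unitMap [IsNoetherian X] {Y : Scheme.{u}} (f : Y ⟶ X) [IsFinite f] :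
    Coh.IsCoh (cokernel (unitMap f)) := by
  haveI : IsLocallyNoetherian Y := LocallyOfFiniteType.isLocallyNoetherian f
  exact H10Coh.isCoh_cokernel _ (H10Coh.isCoh_structureModule' X).1
    (H10Coh.isCoh_push_of_isFinite f _ (H10Coh.isCoh_structureModule' Y))

theorem surjective_hhlin_unitMap [IsNoetherian X] (hdim : topologicalKrullDim X ≤ 1) {Y : Scheme.{u}} (f : Y ⟶ X)
    [IsFinite f] (U : X.Opens) (hU : Dense (U : Set X)) [IsClosedImmersion (f ∣_ U)] :
    Function.Surjective (Canon.HHlin k (unitMap f) 1) :=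
  surjective_hhlin_one hdim _ (isCoh_cokernel_unitMap f)
    ((dim_mono (support_cokernel_unitMap_subset f U)).trans (dim_compl_le_zero hdim U hU))

theorem genus_le [IsProper (X ↘ Spec (CommRingCat.of k))] (hdim : topologicalKrullDim X ≤ 1) {Y : Scheme.{u}}
    [Y.Over (Spec (CommRingCat.of k))] (f : Y ⟶ X) [IsFinite f]
    (hf : f ≫ (X ↘ Spec (CommRingCat.of k)) = Y ↘ Spec (CommRingCat.of k))
    (U : X.Opens) (hU : Dense (U : Set X)) [IsClosedImmersion (f ∣_ U)] :
    Curv2.genus k Y ≤ Curv2.genus k X := by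
  haveI := H29RR.isNoetherian_of_proper (k := k) (X := X)
  haveI := H10Coh.finite_HH_proper k X _ (H10Coh.isCoh_structureModule' X) 1
  haveI : (Coh.structureModule Y).IsQuasicoherent := by
    haveI : IsLocallyNoetherian Y := LocallyOfFiniteType.isLocallyNoetherian f
    exact (H10Coh.isCoh_structureModule' Y).1
  have h := LinearMap.finrank_le_finrank_of_injective (R := k)
    (f := (Canon.HHlin k (unitMap f) 1).dualMap)
    (LinearMap.dualMap_injective_of_surjective (surjective_hhlin_unitMap hdim f U hU))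
  haveI : Module.Finite k (Coh.HH X ((Coh.push f).obj (Coh.structureModule Y)) 1) :=
    Module.Finite.of_surjective _ (surjective_hhlin_unitMap hdim f U hU)
  rw [Subspace.dual_finrank_eq, Subspace.dual_finrank_eq, H28Int.Push.finrank_HH_push k f hf] at h
  exact h

end Groth.Agent.H29Curve.GenusPush
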