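import Groth.Agent.H29Node.NodalMax
import Groth.Agent.H8Props.Stein.FieldBase

/-!
# Sections supported at a closed point
-/

set_option autoImplicit false
set_option linter.style.haveILetI false

universe u

open CategoryTheory CategoryTheory.Limits AlgebraicGeometry TopologicalSpace Opposite IsLocalRing

namespace Groth.Agent.H29Curve.PointSection

variable {X : Scheme.{u}} [IsLocallyNoetherian X]

/-- An element of a local ring at a closed point killed by the maximal ideal extends to a global section vanishing elsewhere. -/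
theorem exists_global (x : X) (hx : IsClosed ({x} : Set X)) (a : X.presheaf.stalk x)
    (ha : ∀ m ∈ maximalIdeal (X.presheaf.stalk x), m * a = 0) :
    ∃ G : Γ(X, ⊤), X.presheaf.germ ⊤ x trivial G = a ∧ ∀ y, y ≠ x → X.presheaf.germ ⊤ y trivial G = 0 := by
  classical
  obtain ⟨U, hxU, a₀, rfl⟩ := X.presheaf.exists_germ_eq a
  obtain ⟨V, hV, hxV, hVU⟩ := exists_isAffineOpen_mem_and_subset (x := x) (U := U) hxU
  haveI : IsNoetherianRing Γ(X, V) := IsLocallyNoetherian.component_noetherian ⟨V, hV⟩
  let a₁ := X.presheaf.map (homOfLE hVU).op a₀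
  have ha₁ : X.presheaf.germ V x hxV a₁ = X.presheaf.germ U x hxU a₀ := TopCat.Presheaf.germ_res_apply _ _ _ _ _
  let J : Ideal Γ(X, V) := (maximalIdeal (X.presheaf.stalk x)).comap (X.presheaf.germ V x hxV).hom
  obtain ⟨s, hs⟩ := (IsNoetherian.noetherian J)
  -- a neighbourhood on which the generators kill the section
  have hex : ∀ f ∈ s, ∃ W : X.Opens, x ∈ W ∧ ∀ y ∈ W, ∀ hy : y ∈ V,
      X.presheaf.germ V y hy (f * a₁) = 0 := fun f hf => by
    have hfJ : f ∈ J := hs ▸ Submodule.subset_span hf
    have h0 : X.presheaf.germ V x hxV (f * a₁) = X.presheaf.germ V x hxV 0 := by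
      rw [map_mul, map_zero, ha₁]
      exact ha _ hfJ
    obtain ⟨W, hxW, i, j, e⟩ := X.presheaf.germ_eq x hxV hxV _ _ h0
    refine ⟨W, hxW, fun y hy hyV => ?_⟩
    rw [map_zero] at e
    rw [← TopCat.Presheaf.germ_res_apply X.presheaf i y hy, e, map_zero]
  choose! W hxW hW using hex
  let O : X.Opens := V ⊓ s.inf W
  have hxO : x ∈ O := ⟨hxV, by
    show x ∈ ((s.inf W : X.Opens) : Set X)
    rw [Opens.coe_finset_inf]
    simp only [Finset.inf_eq_iInf, Set.iInf_eq_iInter, Set.mem_iInter]
    exact fun f hf => hxW f hf⟩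
  have hoff : ∀ y (hy : y ∈ O), y ≠ x → X.presheaf.germ V y hy.1 a₁ = 0 := by
    intro y hy hne
    obtain ⟨f, hfle, hfy⟩ := hV.exists_basicOpen_le (V := ⟨{x}ᶜ, hx.isOpen_compl⟩) ⟨y, hne⟩ hy.1
    have hfJ : f ∈ J := by
      by_contra h
      exact hfle ((X.mem_basicOpen f x hxV).2 (by_contra fun hu => h ((mem_maximalIdeal _).2 hu))) rfl
    rw [← hs] at hfJ
    have hkill : X.presheaf.germ V y hy.1 (f * a₁) = 0 := by
      clear hfy hfle
      induction hfJ using Submodule.span_induction with
      | mem g hg =>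
        refine hW g hg y ?_ hy.1
        exact (Finset.inf_le (Finset.mem_coe.1 hg) : s.inf W ≤ W g) hy.2
      | zero => rw [zero_mul, map_zero]
      | add g h _ _ hg hh => rw [add_mul, map_add, hg, hh, add_zero]
      | smul r g _ hg => rw [smul_eq_mul, mul_assoc, map_mul, hg, mul_zero]
    rw [map_mul] at hkill
    exact ((X.mem_basicOpen f y hy.1).1 hfy).mul_right_eq_zero.1 hkill
  let F : Bool → X.Opens := fun b => bif b then O else ⟨{x}ᶜ, hx.isOpen_compl⟩
  let sf : ∀ b, Γ(X, F b) := fun b => match b with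
    | true => X.presheaf.map (homOfLE (inf_le_left : O ≤ V)).op a₁
    | false => 0
  have hval : ∀ b y (hy : y ∈ F b), y ≠ x → X.presheaf.germ (F b) y hy (sf b) = 0 := by
    intro b y hy hne
    cases b
    · exact map_zero _
    · exact (TopCat.Presheaf.germ_res_apply X.presheaf (homOfLE inf_le_left) y hy a₁).trans (hoff y hy hne)
  obtain ⟨G, hG, -⟩ := TopCat.Sheaf.existsUnique_gluing' X.sheaf F ⊤ (fun b => homOfLE le_top)
    (fun y _ => by
      refine Opens.mem_iSup.2 ?_
      by_cases e : y = x
      · exact ⟨true, e ▸ hxO⟩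
      · exact ⟨false, e⟩) sf
    (fun i j => by
      refine TopCat.Presheaf.section_ext X.sheaf _ _ _ fun y hy => ?_
      erw [TopCat.Presheaf.germ_res_apply, TopCat.Presheaf.germ_res_apply]
      cases i <;> cases j
      · rfl
      · exact (hval false y hy.1 hy.1).trans (hval true y hy.2 hy.1).symm
      · exact (hval true y hy.1 hy.2).trans (hval false y hy.2 hy.2).symm
      · rfl)
  refine ⟨G, ?_, fun y hne => ?_⟩
  · refine (TopCat.Presheaf.germ_res_apply X.presheaf (homOfLE le_top) x (show x ∈ F true from hxO) G).symm.trans ?_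
    erw [hG true]
    exact (TopCat.Presheaf.germ_res_apply _ _ _ _ _).trans ha₁
  · refine (TopCat.Presheaf.germ_res_apply X.presheaf (homOfLE le_top) y (show y ∈ F false from hne) G).symm.trans ?_
    erw [hG false]
    exact map_zero _

/-- If the global functions are reduced, a one-dimensional local ring at a closed point is Cohen–Macaulay. -/
theorem isCM_of_isReduced_globalSections [_root_.IsReduced Γ(X, ⊤)] (x : X) (hx : IsClosed ({x} : Set X))
    (h : ringKrullDim (X.presheaf.stalk x) ≤ 1) : LocCoh.IsCohenMacaulayLocalRing (X.presheaf.stalk x) := by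
  classical
  set R := X.presheaf.stalk x
  by_cases h0 : ringKrullDim R = 0
  · exact H13CI.isCM_of_dim_zero R h0
  rw [H8Props.FlatDepth.isCM_iff_dim]
  refine le_antisymm (h.trans ?_) (H8Props.FlatDepth.depth_le_dim R)
  have hnotass : maximalIdeal R ∉ associatedPrimes R R := by
    intro hass
    obtain ⟨hp, b, hb⟩ := hass
    have hb0 : b ≠ 0 := fun e => hp.ne_top (hb.trans (by
      rw [Ideal.radical_eq_top, Ideal.eq_top_iff_one, Submodule.mem_colon_singleton, e]
      simp))
    obtain ⟨n, hn⟩ := Ideal.exists_pow_le_of_le_radical_of_fg hb.le (IsNoetherian.noetherian _)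
    obtain ⟨a, hane, ha⟩ : ∃ a : R, a ≠ 0 ∧ ∀ m, m ∈ maximalIdeal R → m * a = 0 := by
      have key : ∀ k (c : R), c ≠ 0 → (∀ z ∈ maximalIdeal R ^ k, z * c = 0) →
          ∃ a : R, a ≠ 0 ∧ ∀ m, m ∈ maximalIdeal R → m * a = 0 := by
        intro k
        induction k with
        | zero => exact fun c hc hkc => absurd (by simpa using hkc 1 (by simp)) hc
        | succ k ih =>
          intro c hc hkc
          by_cases hh : ∀ z ∈ maximalIdeal R ^ k, z * c = 0
          · exact ih c hc hh
          · push Not at hh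
            obtain ⟨z, hz, hzc⟩ := hh
            exact ⟨z * c, hzc, fun m hm => by
              rw [← mul_assoc]
              exact hkc _ (by rw [pow_succ']; exact Ideal.mul_mem_mul hm hz)⟩
      refine key n b hb0 fun z hz => ?_
      have := hn hz
      rwa [Submodule.mem_colon_singleton, Submodule.mem_bot, smul_eq_mul] at this
    obtain ⟨G, hGx, hG⟩ := exists_global x hx a ha
    have hnil : IsNilpotent a := by
      rw [← mem_nilradical, nilradical_eq_sInf, Submodule.mem_sInf]
      intro P hP
      haveI : Ideal.IsPrime P := hP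
      by_cases hPm : P = maximalIdeal R
      · rw [hPm]
        by_contra hu
        rw [mem_maximalIdeal, mem_nonunits_iff, not_not] at hu
        refine h0 ?_
        have hbot : maximalIdeal R = ⊥ := eq_bot_iff.2 fun m hm => hu.mul_left_eq_zero.1 (ha m hm)
        letI := (isField_iff_maximalIdeal_eq.2 hbot).toField
        exact ringKrullDim_eq_zero_of_field R
      · obtain ⟨m, hm, hmP⟩ := Set.not_subset.1 fun hle : (maximalIdeal R : Set R) ⊆ P =>
          hPm ((maximalIdeal.isMaximal R).eq_of_le (Ideal.IsPrime.ne_top inferInstance) hle).symm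
        exact (Ideal.IsPrime.mem_or_mem inferInstance
          (show m * a ∈ P by rw [ha m hm]; exact P.zero_mem)).resolve_left hmP
    obtain ⟨n, hn⟩ := hnil
    have hGn : G ^ (n + 1) = 0 := TopCat.Presheaf.section_ext X.sheaf ⊤ _ _ fun y _ => by
      show X.presheaf.germ ⊤ y trivial (G ^ (n + 1)) = X.presheaf.germ ⊤ y trivial 0
      rw [map_pow, map_zero]
      by_cases e : y = x
      · subst e
        rw [hGx, pow_succ, hn, zero_mul]
      · rw [hG y e, zero_pow (by omega)]
    have := IsNilpotent.eq_zero (R := Γ(X, ⊤)) ⟨_, hGn⟩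
    exact hane (by rw [← hGx, this, map_zero])
  obtain ⟨t, ht, hreg⟩ : ∃ t ∈ maximalIdeal R, IsSMulRegular R t := by
    by_contra hcon
    push Not at hcon
    have hsub : (maximalIdeal R : Set R) ⊆ ⋃ P ∈ (associatedPrimes.finite R R).toFinset, ↑P := by
      intro t ht
      simp only [Set.Finite.mem_toFinset]
      rw [biUnion_associatedPrimes_eq_zero_divisors]
      by_contra hno
      exact hcon t ht ((isSMulRegular_iff_right_eq_zero_of_smul).2 fun z hz => by_contra fun hz0 => hno ⟨z, hz0, hz⟩)
    obtain ⟨P, hP, hle⟩ := (Ideal.subset_union_prime ⊥ ⊥ fun P hP _ _ =>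
      ((associatedPrimes.finite R R).mem_toFinset.1 hP).isPrime).1 hsub
    have hP' := (associatedPrimes.finite R R).mem_toFinset.1 hP
    exact hnotass ((maximalIdeal.isMaximal R).eq_of_le hP'.isPrime.ne_top hle ▸ hP')
  have : (1 : ℕ∞) ≤ LocCoh.depth R R := by
    rw [LocCoh.depth, LocCoh.idealDepth]
    split
    · exact le_top
    · refine le_iSup₂_of_le [t] ⟨?_, by simpa using ht⟩ (by simp)
      exact (RingTheory.Sequence.isWeaklyRegular_cons_iff R t []).2 ⟨hreg, RingTheory.Sequence.IsWeaklyRegular.nil R _⟩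
  exact_mod_cast this

end Groth.Agent.H29Curve.PointSection
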