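import Groth.Prelude.Def_StCurv2
import Groth.Prelude.Def_MoreMor
import Groth.Agent.H12AlgSp.Residual
import Groth.Agent.H8Props.FlatDepth
import Groth.Agent.H8Props.FibreStalk
import Groth.Agent.H24Filt.PureCM
import Groth.Agent.H13CI.FibreOpen
import Groth.Agent.H13Desc.EtaleLocal
import Groth.Agent.H02CA.GorRing
import Groth.Agent.S0344

/-!
# Pointwise properties of the fibre local rings of the sheaf of a scheme over a field, read on étale charts
-/

set_option autoImplicit false
set_option linter.style.haveILetI false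

universe u

open CategoryTheory CategoryTheory.Limits AlgebraicGeometry Opposite IsLocalRing

namespace Groth.Agent.H29Curve

open H12AlgSp H12AlgSp.Residual

/-- Properties of local rings which etale local homomorphisms neither create nor destroy. -/
def EtaleInvariant (Q : ∀ (R : Type u) [CommRing R], Prop) : Prop :=
  ∀ (A B : Type u) [CommRing A] [CommRing B] [IsLocalRing A] [IsLocalRing B] [IsNoetherianRing A] [IsNoetherianRing B]
    [Algebra A B] [IsLocalHom (algebraMap A B)] [Module.Flat A B],
    (maximalIdeal A).map (algebraMap A B) = maximalIdeal B → (Q B ↔ Q A)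

theorem etaleInvariant_cm : EtaleInvariant.{u} fun R _ => LocCoh.IsCohenMacaulayLocalRing R := by
  intro A B _ _ _ _ _ _ _ _ _ h
  haveI := H8Props.FlatDepth.isLocalRing_fibre A B
  show LocCoh.IsCohenMacaulayLocalRing B ↔ LocCoh.IsCohenMacaulayLocalRing A
  rw [H8Props.FlatDepth.isCohenMacaulayLocalRing_iff A B]
  exact and_iff_left (H13CI.isCM_of_dim_zero _ (ringKrullDim_eq_zero_of_isField (H13Desc.isField_fibre A B h)))

theorem etaleInvariant_gor : EtaleInvariant.{u} fun R _ => LocCoh.IsGorensteinLocalRing R := by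
  intro A B _ _ _ _ _ _ _ _ _ h
  show LocCoh.IsGorensteinLocalRing B ↔ LocCoh.IsGorensteinLocalRing A
  rw [S0344.result A B]
  refine and_iff_left ?_
  let K := B ⧸ (maximalIdeal A).map (algebraMap A B)
  have hK : IsField K := H13Desc.isField_fibre A B h
  letI := hK.toField
  exact H4Goren.isGorensteinLocalRing_of_isRegularLocalRing K

/-- Etale morphisms preserve and reflect such properties of stalks. -/
theorem stalk_iff_of_etale {Q : ∀ (R : Type u) [CommRing R], Prop} (hQ : EtaleInvariant Q) {U X : Scheme.{u}}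
    [IsLocallyNoetherian X] (f : U ⟶ X) [Etale f] (x : U) :
    Q (U.presheaf.stalk x) ↔ Q (X.presheaf.stalk (f x)) := by
  haveI : IsLocallyNoetherian U := LocallyOfFiniteType.isLocallyNoetherian f
  letI := (f.stalkMap x).hom.toAlgebra
  haveI : Module.Flat (X.presheaf.stalk (f x)) (U.presheaf.stalk x) := Flat.stalkMap f x
  haveI : IsLocalHom (algebraMap (X.presheaf.stalk (f x)) (U.presheaf.stalk x)) :=
    inferInstanceAs (IsLocalHom (f.stalkMap x).hom)
  haveI : Algebra.FormallyUnramified (X.presheaf.stalk (f x)) (U.presheaf.stalk x) :=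
    FormallyUnramified.stalkMap f x
  haveI : Algebra.EssFiniteType (X.presheaf.stalk (f x)) (U.presheaf.stalk x) :=
    LocallyOfFiniteType.stalkMap f x
  exact hQ _ _ Algebra.FormallyUnramified.map_maximalIdeal

/-- Over a scheme etale over a field the fibre local ring is the local ring. -/
theorem fibre_stalk_iff {Q : ∀ (R : Type u) [CommRing R], Prop}
    (hiso : ∀ {R R' : Type u} [CommRing R] [CommRing R'], (R ≃+* R') → Q R → Q R') {U V : Scheme.{u}}
    {k : Type u} [Field k] (v : V ⟶ Spec (CommRingCat.of k)) [Etale v] (h : U ⟶ V) (x : U) :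
    ((h.stalkMap x).hom.Flat ∧ Q ((h.fiber (h x)).presheaf.stalk (h.asFiber x))) ↔ Q (U.presheaf.stalk x) := by
  have hF := (isDiscrete_of_etale_field v).2.2 (h x)
  letI := hF.toField
  letI := (h.stalkMap x).hom.toAlgebra
  have hflat : (h.stalkMap x).hom.Flat :=
    (inferInstance : Module.Flat (V.presheaf.stalk (h x)) (U.presheaf.stalk x))
  have h0 : (maximalIdeal (V.presheaf.stalk (h x))).map (h.stalkMap x).hom = ⊥ := by
    rw [(IsLocalRing.isField_iff_maximalIdeal_eq.1 hF), Ideal.map_bot]
  let e : (h.fiber (h x)).presheaf.stalk (h.asFiber x) ≃+* U.presheaf.stalk x :=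
    (H8Props.FibreStalk.asFiberStalkEquiv h x).symm.trans ((Ideal.quotEquivOfEq h0).trans (RingEquiv.quotientBot _))
  exact ⟨fun h' => hiso e h'.2, fun h' => ⟨hflat, hiso e.symm h'⟩⟩

/-- A pointwise fibre property of the sheaf of a scheme over a field is the property of the scheme. -/
theorem locP_field_iff {Q : ∀ (R : Type u) [CommRing R], Prop} (hQ : EtaleInvariant Q)
    (hiso : ∀ {R R' : Type u} [CommRing R] [CommRing R'], (R ≃+* R') → Q R → Q R')
    (S : Scheme.{u}) (k : Type u) [Field k] (t : Spec (CommRingCat.of k) ⟶ S)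
    (X : Scheme.{u}) (p : X ⟶ Spec (CommRingCat.of k)) [LocallyOfFiniteType p] :
    AlgSp.LocP (fun _ _ g => ∀ x, (g.stalkMap x).hom.Flat ∧ Q ((g.fiber (g x)).presheaf.stalk (g.asFiber x)))
        ((AlgSp.yon S).map (Over.homMk p rfl : Over.mk (p ≫ t) ⟶ Over.mk t)) ↔
      ∀ x : X, Q (X.presheaf.stalk x) := by
  haveI : IsLocallyNoetherian X := LocallyOfFiniteType.isLocallyNoetherian p
  constructor
  · intro h x
    exact (fibre_stalk_iff hiso (𝟙 _) p x).1 (AlgSp.locP_yon_map h x)
  · intro h U V a b e ha hb w x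
    obtain ⟨a, rfl⟩ := (AlgSp.yon S).map_surjective a
    obtain ⟨b, rfl⟩ := (AlgSp.yon S).map_surjective b
    haveI : Etale a.left := (AlgSp.repWith_yon_map_iff _ _).1 ha
    haveI : Etale b.left := (AlgSp.repWith_yon_map_iff _ _).1 hb
    haveI : IsLocallyNoetherian (Over.mk (p ≫ t)).left := (inferInstance : IsLocallyNoetherian X)
    exact (fibre_stalk_iff hiso b.left e.left x).2 ((stalk_iff_of_etale hQ a.left x).2 (h _))

end Groth.Agent.H29Curve
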