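import Groth.Agent.H8Props.FieldDimScheme
import Groth.Agent.H29Curve.GenusPush

/-!
# Proper maps of curves isomorphic over dense opens are finite
-/

set_option autoImplicit false
set_option linter.style.haveILetI false

universe u

open CategoryTheory CategoryTheory.Limits AlgebraicGeometry TopologicalSpace
open Groth.Agent.H8Props.FieldDim

namespace Groth.Agent.H29Curve.BirFinite

theorem isFinite_of_iso_dense {k : Type u} [Field k] {X X' : Scheme.{u}} (p : X ⟶ Spec (CommRingCat.of k))
    [IsProper p] (hdim : topologicalKrullDim X ≤ 1) (f : X' ⟶ X) [IsProper f]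
    (U : X.Opens) (hU : Dense (U : Set X)) (hU' : Dense ((f ⁻¹ᵁ U : X'.Opens) : Set X')) [IsIso (f ∣_ U)] :
    IsFinite f := by
  haveI : IsLocallyNoetherian X := LocallyOfFiniteType.isLocallyNoetherian p
  haveI : CompactSpace X := QuasiCompact.compactSpace_of_compactSpace p
  haveI : IsNoetherian X := { }
  haveI : IsLocallyNoetherian X' := LocallyOfFiniteType.isLocallyNoetherian f
  haveI : CompactSpace X' := QuasiCompact.compactSpace_of_compactSpace f
  haveI : IsNoetherian X' := { }
  let q := f ≫ p
  -- points of dimension at least two lie outside `f⁻¹U`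
  have hle : ∀ η : X', η ∈ f ⁻¹ᵁ U → cdim η ≤ 1 := by
    intro η hη
    obtain ⟨V, hV, hηV, hVU⟩ := exists_isAffineOpen_mem_and_subset (x := η) (U := f ⁻¹ᵁ U) hη
    rw [cdim_eq_inter q η hV hηV]
    refine (dim_mono (fun z hz => hVU hz.2)).trans ?_
    have h1 : topologicalKrullDim ((f ⁻¹ᵁ U : X'.Opens) : Set X') = topologicalKrullDim ((U : X.Opens) : Scheme.{u}) :=
      IsHomeomorph.topologicalKrullDim_eq (Scheme.homeoOfIso (asIso (f ∣_ U))) (Homeomorph.isHomeomorph _)
    rw [h1]
    exact (U.ι.isOpenEmbedding.isInducing.topologicalKrullDim_le).trans hdim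
  have hfin : ∀ y : X, (f ⁻¹' {y}).Finite := by
    intro y
    by_cases hy : y ∈ U
    · refine Set.Subsingleton.finite fun a ha b hb => ?_
      have hab : (f ∣_ U) ⟨a, show f a ∈ U from ha.symm ▸ hy⟩ = (f ∣_ U) ⟨b, show f b ∈ U from hb.symm ▸ hy⟩ := by
        apply U.ι.isOpenEmbedding.injective
        rw [← Scheme.Hom.comp_apply, ← Scheme.Hom.comp_apply, morphismRestrict_ι, Scheme.Hom.comp_apply,
          Scheme.Hom.comp_apply]
        exact ha.trans hb.symm
      exact congrArg Subtype.val ((Scheme.homeoOfIso (asIso (f ∣_ U))).injective hab)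
    · -- the complement of the dense open is finite, its preimage has no room for chains
      have hTc : IsClosed ((f ⁻¹ᵁ U : X'.Opens) : Set X')ᶜ := (f ⁻¹ᵁ U).2.isClosed_compl
      have hT0 : topologicalKrullDim (((f ⁻¹ᵁ U : X'.Opens) : Set X')ᶜ : Set X') ≤ 0 := by
        haveI : QuasiSober (((f ⁻¹ᵁ U : X'.Opens) : Set X')ᶜ : Set X') := hTc.isClosedEmbedding_subtypeVal.quasiSober
        rw [dim_eq_iSup_cdim]
        refine iSup_le fun z => ?_
        have hz : z.1 ∉ f ⁻¹ᵁ U := z.2
        obtain ⟨W, hW, hzW⟩ : ∃ W ∈ irreducibleComponents (X' : Type u), z.1 ∈ W :=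
          ⟨irreducibleComponent z.1, irreducibleComponent_mem_irreducibleComponents z.1, mem_irreducibleComponent⟩
        obtain ⟨η, hη⟩ := QuasiSober.sober hW.1 (isClosed_of_mem_irreducibleComponents W hW)
        have hηU : η ∈ f ⁻¹ᵁ U := by
          have hcl : IsClosed (⋃₀ (irreducibleComponents (X' : Type u) \ {W})) := by
            rw [Set.sUnion_eq_biUnion]
            exact ((NoetherianSpace.finite_irreducibleComponents).sdiff).isClosed_biUnion
              fun V hV => isClosed_of_mem_irreducibleComponents V hV.1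
          obtain ⟨w, hw, hwU⟩ := hU'.inter_open_nonempty _ hcl.isOpen_compl ⟨η, fun ⟨V, ⟨hV, hne⟩, hηV⟩ =>
            hne (hW.eq_of_subset hV.1 (by
              rw [← (hη : closure {η} = W)]
              exact closure_minimal (Set.singleton_subset_iff.2 hηV) (isClosed_of_mem_irreducibleComponents V hV))).symm⟩
          have hwW : w ∈ W := by
            by_contra h
            exact hw ⟨irreducibleComponent w, ⟨irreducibleComponent_mem_irreducibleComponents w,
              fun e => h (e ▸ mem_irreducibleComponent)⟩, mem_irreducibleComponent⟩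
          exact (hη.specializes hwW).mem_open (f ⁻¹ᵁ U).2 hwU
        have hlt : cdim z.1 < cdim η := cdim_lt q (hη.specializes hzW) fun e => hz (e ▸ hηU)
        have h0 : cdim z.1 ≤ 0 := by
          obtain ⟨n, hn⟩ := exists_nat_cdim q z.1
          have h2 := lt_of_lt_of_le hlt (hle η hηU)
          rw [hn] at h2 ⊢
          have : n < 1 := by exact_mod_cast h2
          exact_mod_cast (Nat.lt_one_iff.1 this).le
        refine le_trans ?_ h0
        have he : Topology.IsEmbedding (Subtype.val : (((f ⁻¹ᵁ U : X'.Opens) : Set X')ᶜ : Set X') → X') := Topology.IsEmbedding.subtypeVal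
        have hpre : closure ({z} : Set _) = Subtype.val ⁻¹' closure ({z.1} : Set X') := by
          rw [he.isInducing.closure_eq_preimage_closure_image, Set.image_singleton]
        show topologicalKrullDim (closure ({z} : Set _) : Set _) ≤ cdim z.1
        rw [hpre, dim_preimage he]
        exact dim_mono Set.inter_subset_left
      haveI : QuasiSober (((f ⁻¹ᵁ U : X'.Opens) : Set X')ᶜ : Set X') := hTc.isClosedEmbedding_subtypeVal.quasiSober
      haveI : CompactSpace (((f ⁻¹ᵁ U : X'.Opens) : Set X')ᶜ : Set X') := isCompact_iff_compactSpace.mp hTc.isCompact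
      haveI : NoetherianSpace (((f ⁻¹ᵁ U : X'.Opens) : Set X')ᶜ : Set X') := Topology.IsInducing.subtypeVal.noetherianSpace
      haveI := (H28Top.finite_discrete_of_dim_le_zero hT0).1
      exact (Set.toFinite (((f ⁻¹ᵁ U : X'.Opens) : Set X')ᶜ)).subset fun a (ha : f a = y) haU => hy (ha ▸ haU)
  haveI : LocallyQuasiFinite f := LocallyQuasiFinite.of_finite_preimage_singleton f hfin
  exact IsFinite.of_isProper_of_locallyQuasiFinite f

end Groth.Agent.H29Curve.BirFinite
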