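import Groth.Agent.H29Curve.BirFinite
import Groth.Agent.H28Curve.DegOneIso
import Groth.Agent.H29RR.GenPoint
import Groth.Agent.H11Tilde.TwistPow
import Groth.Agent.H17.GabRos.Support

/-!
# Equal genus and equal global functions force an isomorphism
-/

set_option autoImplicit false
set_option linter.style.haveILetI false

universe u

open CategoryTheory CategoryTheory.Limits AlgebraicGeometry TopologicalSpace Opposite

namespace Groth.Agent.H29Curve.BirIso

attribute [local instance 10000] H10Coh.hasSheafifyAb H10Coh.hasWeakSheafifyAb H10Coh.hasExtAb H10Coh.enoughInjAb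

/-- A module supported at finitely many closed points without global sections is zero. -/
theorem isZero_of_h0 {X : Scheme.{u}} (M : X.Modules) {S : Set X} (hS : S.Finite) (hcl : ∀ z ∈ S, IsClosed ({z} : Set X))
    (h : ∀ y, y ∉ S → Subsingleton (M.presheaf.stalk y)) (h0 : ∀ g : Γ(M, ⊤), g = 0) :
    IsZero M := by
  refine H17.GabRos.isZero_of_support_eq_empty (Set.eq_empty_iff_forall_notMem.2 fun x hx => hx ?_)
  refine subsingleton_of_forall_eq 0 fun a => ?_
  by_cases hxS : x ∈ S
  swap
  · haveI := h x hxS; exact Subsingleton.elim _ _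
  obtain ⟨W, hxW, t, rfl⟩ := TopCat.Presheaf.exists_germ_eq M.presheaf a
  have hA : IsClosed (S \ {x}) := by
    rw [← Set.biUnion_of_singleton (S \ {x})]
    exact (hS.sdiff).isClosed_biUnion fun z hz => hcl z hz.1
  let O : X.Opens := W ⊓ ⟨(S \ {x})ᶜ, hA.isOpen_compl⟩
  have hxO : x ∈ O := ⟨hxW, fun h => h.2 rfl⟩
  let F : Bool → X.Opens := fun b => bif b then O else ⟨{x}ᶜ, (hcl x hxS).isOpen_compl⟩
  let sf : ∀ b, Γ(M, F b) := fun b => match b with
    | true => M.presheaf.map (homOfLE (inf_le_left : O ≤ W)).op t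
    | false => 0
  have hval : ∀ b y (hy : y ∈ F b), y ≠ x → M.presheaf.germ (F b) y hy (sf b) = 0 := by
    intro b y hy hne
    cases b
    · exact map_zero _
    · haveI := h y (fun hyS => hy.2 ⟨hyS, hne⟩); exact Subsingleton.elim _ _
  let Msh : TopCat.Sheaf AddCommGrpCat.{u} X.toTopCat := ⟨M.presheaf, M.isSheaf⟩
  obtain ⟨G, hG, -⟩ := TopCat.Sheaf.existsUnique_gluing' Msh F ⊤ (fun b => homOfLE le_top)
    (fun y _ => by
      refine Opens.mem_iSup.2 ?_
      by_cases e : y = x
      · exact ⟨true, e ▸ hxO⟩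
      · exact ⟨false, e⟩) sf
    (fun i j => by
      refine TopCat.Presheaf.section_ext Msh _ _ _ fun y hy => ?_
      erw [TopCat.Presheaf.germ_res_apply, TopCat.Presheaf.germ_res_apply]
      cases i <;> cases j
      · rfl
      · exact (hval false y hy.1 hy.1).trans (hval true y hy.2 hy.1).symm
      · exact (hval true y hy.1 hy.2).trans (hval false y hy.2 hy.2).symm
      · rfl)
  have e : sf true = 0 := by
    rw [← hG true]
    show M.presheaf.map _ G = 0
    rw [h0 G, map_zero]
  refine (TopCat.Presheaf.germ_res_apply M.presheaf (homOfLE (inf_le_left : O ≤ W)) x hxO t).symm.trans ?_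
  exact (congrArg _ e).trans (map_zero _)

theorem isIso_of_genus_eq {k : Type u} [Field k] {X Y : Scheme.{u}} [X.Over (Spec (CommRingCat.of k))]
    [Y.Over (Spec (CommRingCat.of k))] [IsProper (X ↘ Spec (CommRingCat.of k))] [AlgebraicGeometry.IsReduced X]
    (hdim : topologicalKrullDim X ≤ 1) (f : Y ⟶ X) [IsFinite f]
    (hf : f ≫ (X ↘ Spec (CommRingCat.of k)) = Y ↘ Spec (CommRingCat.of k))
    (U : X.Opens) (hU : Dense (U : Set X)) [IsIso (f ∣_ U)]
    (h0 : Function.Surjective (f.app ⊤).hom) (h1 : Curv2.genus k Y = Curv2.genus k X) : IsIso f := by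
  haveI := H29RR.isNoetherian_of_proper (k := k) (X := X)
  haveI : IsLocallyNoetherian Y := LocallyOfFiniteType.isLocallyNoetherian f
  haveI hq : (Coh.structureModule Y).IsQuasicoherent := (H10Coh.isCoh_structureModule' Y).1
  set u := GenusPush.unitMap f
  -- injectivity
  have hinj : ∀ (V : X.Opens) (s : Γ(X, V)), f.app V s = 0 → s = 0 := by
    intro V s hs
    rw [← basicOpen_eq_bot_iff]
    refine eq_bot_iff.2 fun x hx => ?_
    obtain ⟨y, hy, hyU⟩ := hU.inter_open_nonempty _ (X.basicOpen s).2 ⟨x, hx⟩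
    obtain ⟨z, hz⟩ := (f ∣_ U).homeomorph.surjective ⟨y, hyU⟩
    have hzy : f ((f ⁻¹ᵁ U).ι z) = y := by
      rw [← Scheme.Hom.comp_apply, ← morphismRestrict_ι, Scheme.Hom.comp_apply]
      exact congrArg Subtype.val hz
    have hmem : (f ⁻¹ᵁ U).ι z ∈ f ⁻¹ᵁ X.basicOpen s := by
      show f _ ∈ X.basicOpen s
      rw [hzy]; exact hy
    rw [Scheme.preimage_basicOpen, hs, Scheme.basicOpen_zero] at hmem
    exact hmem.elim
  haveI : Mono u := H11Tilde.mono_of_injective u fun W s hs x hx => ⟨W, le_rfl, hx, (congrArg _ (hinj W s hs)).trans (map_zero _)⟩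
  have hS : (ShortComplex.mk u (cokernel.π u) (cokernel.condition u)).ShortExact :=
    { exact := ShortComplex.exact_cokernel _ }
  have hC := GenusPush.isCoh_cokernel_unitMap f
  have hd := (GenusPush.dim_mono (GenusPush.support_cokernel_unitMap_subset f U)).trans
    (GenusPush.dim_compl_le_zero hdim U hU)
  -- bijectivity on first cohomology
  haveI := H10Coh.finite_HH_proper k X _ (H10Coh.isCoh_structureModule' X) 1
  have hs1 := GenusPush.surjective_hhlin_unitMap (k := k) hdim f U hU
  haveI : Module.Finite k (Coh.HH X ((Coh.push f).obj (Coh.structureModule Y)) 1) := Module.Finite.of_surjective _ hs1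
  have hi1 : Function.Injective (Canon.HHlin k u 1) := by
    refine (LinearMap.injective_iff_surjective_of_finrank_eq_finrank ?_).2 hs1
    exact h1.symm.trans (H28Int.Push.finrank_HH_push k f hf _ 1).symm
  -- the cokernel has no global sections
  have hC0 : ∀ g : Γ(cokernel u, ⊤), g = 0 := by
    intro g
    let x : Coh.HH X (cokernel u) 0 := (H29RR.sec _).symm g
    obtain ⟨y, hy⟩ := Abelian.Ext.covariant_sequence_exact₃ _ (H10Coh.shortExact_sh hS) x (n₁ := 1) rfl (hi1 (by
      refine Eq.trans ?_ (map_zero _).symm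
      show Abelian.Ext.comp (Abelian.Ext.comp x (H10Coh.shortExact_sh hS).extClass rfl) _ (add_zero 1) = 0
      rw [Abelian.Ext.comp_assoc _ _ _ _ (add_zero 1) (by omega)]
      erw [(H10Coh.shortExact_sh hS).extClass_comp]
      exact Abelian.Ext.comp_zero x _ _ _ _))
    obtain ⟨z, hz⟩ := h0 (H29RR.sec _ y)
    let w : Coh.HH X (Coh.structureModule X) 0 := (H29RR.sec _).symm z
    have hy' : y = Canon.HHlin k u 0 w := by
      refine (H29RR.sec _).injective ?_
      rw [H29RR.sec_natural, AddEquiv.apply_symm_apply]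
      exact hz.symm
    have hx : x = Canon.HHlin k (cokernel.π u) 0 y := hy.symm
    have hx0 : x = 0 := by
      refine (H29RR.sec _).injective ?_
      rw [hx, hy', H29RR.sec_natural, H29RR.sec_natural, map_zero]
      exact congr($(cokernel.condition u).app ⊤ _)
    exact ((H29RR.sec _).apply_symm_apply g).symm.trans (by rw [show (H29RR.sec _).symm g = 0 from hx0, map_zero])
  obtain ⟨hfin, hcl⟩ : (CohB1.support (cokernel u)).Finite ∧ ∀ z ∈ CohB1.support (cokernel u), IsClosed ({z} : Set X) := by
    have hc : IsClosed (CohB1.support (cokernel u)) := H10Coh.isClosed_support _ hC.2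
    haveI : QuasiSober (CohB1.support (cokernel u)) := hc.isClosedEmbedding_subtypeVal.quasiSober
    haveI : CompactSpace (CohB1.support (cokernel u)) := isCompact_iff_compactSpace.mp hc.isCompact
    haveI : NoetherianSpace (CohB1.support (cokernel u)) := Topology.IsInducing.subtypeVal.noetherianSpace
    haveI := (H28Top.finite_discrete_of_dim_le_zero hd).1
    refine ⟨Set.toFinite _, fun z hz => ?_⟩
    have h1 := H28Top.isClosed_singleton_of_dim_le_zero hd (⟨z, hz⟩ : CohB1.support (cokernel u))
    simpa using (hc.isClosedEmbedding_subtypeVal.isClosed_iff_image_isClosed).1 h1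
  have hz := isZero_of_h0 (cokernel u) hfin hcl (fun y hy => not_not.1 hy) hC0
  haveI : Epi u := Preadditive.epi_of_cokernel_zero (hz.eq_of_tgt _ _)
  haveI : IsIso u := isIso_of_mono_of_epi u
  refine H28Curve.isIso_of_bijective_app f fun V => ?_
  haveI := Scheme.Modules.Hom.isIso_iff_isIso_app.1 (inferInstance : IsIso u) V
  exact ConcreteCategory.bijective_of_isIso (u.app V)

end Groth.Agent.H29Curve.BirIso
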