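import Groth.Agent.H29Node.PClosedScheme
import Groth.Agent.H29Curve.GenusPush
import Groth.Agent.H10Coh.PushEdge
import Mathlib

/-!
# Frobenius on the first cohomology of a curve and of its normalisation
-/

set_option autoImplicit false
set_option linter.style.haveILetI false
set_option linter.unusedSectionVars false
set_option backward.isDefEq.respectTransparency.types false

universe u

open CategoryTheory CategoryTheory.Limits AlgebraicGeometry TopologicalSpace Opposite

namespace Groth.Agent.H29Curve.FrobNormalization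

attribute [local instance 10000] H10Coh.hasSheafifyAb H10Coh.hasWeakSheafifyAb H10Coh.hasExtAb H10Coh.enoughInjAb

section Semilinear

variable {k : Type u} [Field k] {p : ℕ} [ExpChar k p] [PerfectRing k p] {V : Type u} [AddCommGroup V] [Module k V]
  [Module.Finite k V]

theorem bijective_of_injective (T : V →ₛₗ[frobenius k p] V) (h : Function.Injective T) :
    Function.Bijective T := by
  classical
  refine ⟨h, fun v => ?_⟩
  let b := Module.finBasis k V
  have hli : LinearIndependent k (fun i => T (b i)) := Fintype.linearIndependent_iff.2 fun g hg i => by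
    choose c hc using fun j => (bijective_frobenius k p).2 (g j)
    have h0 : T (∑ j, c j • b j) = 0 := by
      rw [map_sum]
      refine Eq.trans (Finset.sum_congr rfl fun j _ => ?_) hg
      rw [LinearMap.map_smulₛₗ, hc]
    have := Fintype.linearIndependent_iff.1 b.linearIndependent c (h (h0.trans (map_zero T).symm)) i
    rw [← hc, this, map_zero]
  obtain ⟨g, hg⟩ := (Submodule.mem_span_range_iff_exists_fun k).1
    ((hli.span_eq_top_of_card_eq_finrank' (Fintype.card_fin _)).ge (Submodule.mem_top (x := v)))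
  choose c hc using fun j => (bijective_frobenius k p).2 (g j)
  refine ⟨∑ j, c j • b j, ?_⟩
  rw [map_sum, ← hg]
  exact Finset.sum_congr rfl fun j _ => by rw [LinearMap.map_smulₛₗ, hc]

theorem bijective_of_surjective (T : V →ₛₗ[frobenius k p] V) (h : Function.Surjective T) :
    Function.Bijective T := by
  classical
  refine ⟨(injective_iff_map_eq_zero T).2 fun v hv => ?_, h⟩
  let b := Module.finBasis k V
  have hrepr : ∀ x, T x = ∑ j, frobenius k p (b.repr x j) • T (b j) := fun x => by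
    conv_lhs => rw [← b.sum_repr x]
    rw [map_sum]
    exact Finset.sum_congr rfl fun j _ => LinearMap.map_smulₛₗ _ _ _
  have hli : LinearIndependent k (fun i => T (b i)) :=
    linearIndependent_of_top_le_span_of_card_eq_finrank (fun w _ => by
      obtain ⟨x, rfl⟩ := h w
      rw [hrepr]
      exact Submodule.sum_mem _ fun j _ => Submodule.smul_mem _ _ (Submodule.subset_span ⟨j, rfl⟩))
      (Fintype.card_fin _)
  rw [hrepr] at hv
  have := Fintype.linearIndependent_iff.1 hli _ hv
  refine b.repr.injective ?_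
  ext j
  rw [map_zero]
  exact frobenius_inj k p ((this j).trans (map_zero _).symm)

end Semilinear

section Sheaf

variable {k : Type u} [Field k] {p : ℕ} [Fact p.Prime] [CharP k p] [PerfectRing k p] {X : Scheme.{u}}
  [X.Over (Spec (CommRingCat.of k))] (M : X.Modules) (ψ : Coh.toAb M ⟶ Coh.toAb M)

/-- An additive endomorphism which is semilinear for the `p`-th power map. -/
def IsPSemilinear (p : ℕ) : Prop :=
  ∀ (U : X.Opens) (r : Γ(X, U)) (s : Γ(M, U)),
    (ψ.hom.app (op U)).hom (r • s) = r ^ p • (show Γ(M, U) from (ψ.hom.app (op U)).hom s)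

theorem smulAb_comp (h : IsPSemilinear M ψ p) (r : Coh.Γtop X) :
    Coh.smulAb M r ≫ ψ = ψ ≫ Coh.smulAb M (r ^ p) := by
  refine ObjectProperty.hom_ext _ ?_
  ext U m
  change (ψ.hom.app U).hom (Coh.resTop X U r • (show M.val.obj U from m)) =
    Coh.resTop X U (r ^ p) • (show M.val.obj U from (ψ.hom.app U).hom m)
  rw [map_pow]
  exact h U.unop _ _

/-- The induced semilinear map on cohomology. -/
noncomputable def hhFrob (h : IsPSemilinear M ψ p) (n : ℕ) :
    Coh.HH X M n →ₛₗ[frobenius k p] Coh.HH X M n :=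
  { toFun := Sheaf.H.map ψ n
    map_add' := map_add _
    map_smul' := fun c x => by
      let g : k →+* Coh.Γtop X := Coh.toGlobal (X ↘ Spec (CommRingCat.of k))
      change Sheaf.H.map ψ n (Sheaf.H.map (Coh.smulAb M (g c)) n x) =
        Sheaf.H.map (Coh.smulAb M (g (c ^ p))) n (Sheaf.H.map ψ n x)
      rw [← Sheaf.H.map_comp_apply, ← Sheaf.H.map_comp_apply, smulAb_comp M ψ h, map_pow] }

theorem bijective_H_of_injective (h : IsPSemilinear M ψ p) (n : ℕ) [Module.Finite k (Coh.HH X M n)]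
    (hi : Function.Injective (Sheaf.H.map ψ n)) : Function.Bijective (Sheaf.H.map ψ n) :=
  bijective_of_injective (hhFrob (k := k) M ψ h n) hi

theorem bijective_H_of_surjective (h : IsPSemilinear M ψ p) (n : ℕ) [Module.Finite k (Coh.HH X M n)]
    (hi : Function.Surjective (Sheaf.H.map ψ n)) : Function.Bijective (Sheaf.H.map ψ n) :=
  bijective_of_surjective (hhFrob (k := k) M ψ h n) hi

end Sheaf

section FiveLemma

variable {Y : TopCat.{u}}

theorem injective_H0 {F G : CohTop.Ab Y} (φ : F ⟶ G) [Mono φ] : Function.Injective (Sheaf.H.map φ 0) :=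
  Abelian.Ext.postcomp_mk₀_injective_of_mono _ _

/-- Comparing an endomorphism of a short exact sequence in degree one. -/
theorem bijective_iff {S : ShortComplex (CohTop.Ab Y)} (hS : S.ShortExact) (τ : S ⟶ S) [Mono τ.τ₃]
    (hf : Function.Surjective (Sheaf.H.map S.f 1)) (h0 : Function.Surjective (Sheaf.H.map τ.τ₂ 0))
    (h1 : Function.Injective (Sheaf.H.map τ.τ₁ 1) → Function.Bijective (Sheaf.H.map τ.τ₁ 1))
    (h2 : Function.Surjective (Sheaf.H.map τ.τ₂ 1) → Function.Bijective (Sheaf.H.map τ.τ₂ 1)) :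
    Function.Bijective (Sheaf.H.map τ.τ₁ 1) ↔ Function.Bijective (Sheaf.H.map τ.τ₂ 1) := by
  constructor
  · intro hb
    refine h2 fun y => ?_
    obtain ⟨x, rfl⟩ := hf y
    obtain ⟨z, rfl⟩ := hb.2 x
    refine ⟨Sheaf.H.map S.f 1 z, ?_⟩
    rw [← Sheaf.H.map_comp_apply, ← Sheaf.H.map_comp_apply, τ.comm₁₂]
  · intro hb
    refine h1 ((injective_iff_map_eq_zero _).2 fun x hx => ?_)
    have hfx : Sheaf.H.map S.f 1 x = 0 := hb.1 (by
      rw [← Sheaf.H.map_comp_apply, ← τ.comm₁₂, Sheaf.H.map_comp_apply, hx, map_zero, map_zero])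
    obtain ⟨q, hq⟩ := Abelian.Ext.covariant_sequence_exact₁ _ hS x hfx (n₀ := 0) rfl
    subst hq
    have hn := ShortComplex.ShortExact.extClass_naturality hS hS τ
    have h' : (Sheaf.H.map τ.τ₃ 0 q).comp hS.extClass (rfl : 0 + 1 = 1) = 0 := by
      refine Eq.trans ?_ hx
      show (Abelian.Ext.comp q (Abelian.Ext.mk₀ τ.τ₃) (add_zero 0)).comp hS.extClass rfl =
        (Abelian.Ext.comp q hS.extClass rfl).comp (Abelian.Ext.mk₀ τ.τ₁) (add_zero 1)
      rw [Abelian.Ext.comp_assoc _ _ _ rfl (add_zero 1) (show 0 + 1 + 0 = 1 by omega), hn,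
        Abelian.Ext.comp_assoc _ _ _ (add_zero 0) (zero_add 1) (show 0 + 0 + 1 = 1 by omega)]
    obtain ⟨c, hc⟩ := Abelian.Ext.covariant_sequence_exact₃ _ hS _ rfl h'
    obtain ⟨c', hc'⟩ := h0 c
    have hq : q = Sheaf.H.map S.g 0 c' := by
      refine injective_H0 τ.τ₃ ?_
      rw [← Sheaf.H.map_comp_apply, ← τ.comm₂₃, Sheaf.H.map_comp_apply, hc']
      exact hc.symm
    rw [hq]
    show (Abelian.Ext.comp c' (Abelian.Ext.mk₀ S.g) (add_zero 0)).comp hS.extClass rfl = 0
    refine (Abelian.Ext.comp_assoc_of_second_deg_zero _ _ _ _).trans ?_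
    exact (congrArg (fun z => Abelian.Ext.comp c' z (rfl : 0 + 1 = 0 + 1)) hS.comp_extClass).trans
      (Abelian.Ext.comp_zero c' _ _ _ rfl)

end FiveLemma

section Birational

variable {X Y : Scheme.{u}} [AlgebraicGeometry.IsReduced X] [AlgebraicGeometry.IsReduced Y] (π : Y ⟶ X) (U : X.Opens)

/-- A section vanishing on a dense open of a reduced scheme is zero. -/
theorem eq_zero_of_dense {Z : Scheme.{u}} [AlgebraicGeometry.IsReduced Z] {D : Z.Opens} (hD : Dense (D : Set Z))
    {W : Z.Opens} (s : Γ(Z, W)) (h : Z.presheaf.map (homOfLE (inf_le_left : W ⊓ D ≤ W)).op s = 0) : s = 0 := by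
  refine (basicOpen_eq_bot_iff s).1 (SetLike.coe_injective ?_)
  rw [Opens.coe_bot]
  by_contra hne
  obtain ⟨y, hy, hyD⟩ := hD.inter_open_nonempty _ (Z.basicOpen s).isOpen (Set.nonempty_iff_ne_empty.2 hne)
  have hy' : y ∈ Z.basicOpen (Z.presheaf.map (homOfLE (inf_le_left : W ⊓ D ≤ W)).op s) := by
    rw [Scheme.basicOpen_res]
    exact ⟨⟨Z.basicOpen_le s hy, hyD⟩, hy⟩
  rw [h, Scheme.basicOpen_zero] at hy'
  exact hy'

/-- Above an open over which `π` is an isomorphism the sections agree. -/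
theorem bijective_app_of_le [IsIso (π ∣_ U)] {W : X.Opens} (hWU : W ≤ U) : Function.Bijective (π.app W) := by
  have e : U.ι ''ᵁ U.ι ⁻¹ᵁ W = W := by
    rw [Scheme.Hom.image_preimage_eq_opensRange_inf, Scheme.Opens.opensRange_ι]
    exact inf_eq_right.mpr hWU
  refine (congrArg (fun W => Function.Bijective (π.app W)) e).mp ?_
  have hb := ConcreteCategory.bijective_of_isIso ((π ∣_ U).app (U.ι ⁻¹ᵁ W))
  rw [morphismRestrict_app] at hb
  have hres := ConcreteCategory.bijective_of_isIso
    (Y.presheaf.map (eqToHom (image_morphismRestrict_preimage π U (U.ι ⁻¹ᵁ W))).op)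
  exact (Function.Bijective.of_comp_iff' hres _).1 hb

/-- The comparison map is injective on sections. -/
theorem app_injective [IsIso (π ∣_ U)] (hU : Dense (U : Set X)) (W : X.Opens) : Function.Injective (π.app W) := by
  rw [injective_iff_map_eq_zero]
  intro s hs
  refine eq_zero_of_dense hU s ((bijective_app_of_le π U (inf_le_right : W ⊓ U ≤ U)).1 ?_)
  rw [map_zero]
  refine (ConcreteCategory.congr_hom (π.naturality (homOfLE (inf_le_left : W ⊓ U ≤ W)).op) s).trans ?_
  show (Y.presheaf.map _) (π.app W s) = 0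
  rw [hs, map_zero]

omit [AlgebraicGeometry.IsReduced Y] in
/-- An open of an affine open missing a regular element's locus is empty. -/
theorem eq_bot_of_disjoint {V : X.Opens} (hV : IsAffineOpen V) {v : Γ(X, V)} (hv : IsSMulRegular Γ(X, V) v)
    {W : X.Opens} (hW : W ≤ V) (h : W ⊓ X.basicOpen v = ⊥) : W = ⊥ := by
  refine eq_bot_iff.2 fun y hy => ?_
  obtain ⟨g, hg, hyg⟩ := hV.exists_basicOpen_le ⟨y, hy⟩ (hW hy)
  have h0 : v * g = 0 := by
    refine (basicOpen_eq_bot_iff _).1 ?_
    rw [Scheme.basicOpen_mul, inf_comm, eq_bot_iff, ← h]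
    exact inf_le_inf_right _ hg
  obtain rfl : g = 0 := hv (by simpa [smul_eq_mul] using h0)
  rw [Scheme.basicOpen_zero] at hyg
  exact hyg

/-- An element regular on an affine open with locus in `U`. -/
theorem exists_regular [IsLocallyNoetherian X] (hU : Dense (U : Set X)) {V : X.Opens} (hV : IsAffineOpen V) :
    ∃ v : Γ(X, V), IsSMulRegular Γ(X, V) v ∧ X.basicOpen v ≤ U := by
  haveI : IsNoetherianRing Γ(X, V) := IsLocallyNoetherian.component_noetherian ⟨V, hV⟩
  haveI : _root_.IsReduced Γ(X, V) := IsReduced.component_reduced V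
  let Z : Set (PrimeSpectrum Γ(X, V)) := (fun P => hV.fromSpec P) ⁻¹' ((U : Set X)ᶜ)
  have hZ : IsClosed Z := U.isOpen.isClosed_compl.preimage hV.fromSpec.continuous
  obtain ⟨J, hJ⟩ := (PrimeSpectrum.isClosed_iff_zeroLocus_ideal Z).1 hZ
  have hfin : (minimalPrimes Γ(X, V)).Finite := minimalPrimes.finite_of_isNoetherianRing _
  have hno : ∀ P ∈ minimalPrimes Γ(X, V), ¬ J ≤ P := by
    intro P hP hJP
    classical
    have hPp : P.IsPrime := hP.1.1
    let S : Finset (Ideal Γ(X, V)) := hfin.toFinset.erase P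
    have hS : ¬ S.prod id ≤ P := fun hle => by
      obtain ⟨Q, hQ, hQP⟩ := (Ideal.IsPrime.prod_le hPp).1 hle
      obtain ⟨hne, hQm⟩ := Finset.mem_erase.1 hQ
      rw [Set.Finite.mem_toFinset] at hQm
      exact hne (le_antisymm hQP (hP.2 ⟨hQm.1.1, bot_le⟩ hQP))
    obtain ⟨f, hfS, hfP⟩ := SetLike.not_le_iff_exists.1 hS
    have hopen : IsOpen ((fun P => hV.fromSpec P) '' (PrimeSpectrum.basicOpen f : Set (PrimeSpectrum Γ(X, V)))) :=
      hV.fromSpec.isOpenEmbedding.isOpenMap _ (PrimeSpectrum.basicOpen f).isOpen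
    obtain ⟨_, ⟨Q, hQf, rfl⟩, hQU⟩ := hU.inter_open_nonempty _ hopen ⟨_, ⟨⟨P, hPp⟩, hfP, rfl⟩⟩
    obtain ⟨Q₀, hQ₀, hQ₀Q⟩ := Ideal.exists_minimalPrimes_le (bot_le : ⊥ ≤ Q.asIdeal)
    have hQ₀P : Q₀ = P := by
      by_contra hne
      exact hQf (hQ₀Q ((Ideal.prod_le_inf.trans
        (Finset.inf_le (f := id) (Finset.mem_erase.2 ⟨hne, hfin.mem_toFinset.2 hQ₀⟩))) hfS))
    have hQZ : Q ∈ Z := by
      rw [hJ]
      exact fun a ha => hQ₀Q (hQ₀P ▸ hJP ha)
    exact hQZ hQU
  obtain ⟨v, hvJ, hv⟩ : ∃ v ∈ J, ∀ P ∈ minimalPrimes Γ(X, V), v ∉ P := by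
    by_contra hne
    push Not at hne
    have hsub : (J : Set Γ(X, V)) ⊆ ⋃ P ∈ (hfin.toFinset : Set (Ideal Γ(X, V))), (P : Set Γ(X, V)) :=
      fun a ha => by
        obtain ⟨P, hP, haP⟩ := hne a ha
        exact Set.mem_biUnion (hfin.mem_toFinset.2 hP) haP
    obtain ⟨P, hP, hJP⟩ := (Ideal.subset_union_prime (f := fun i => i) ⊥ ⊥
      fun P hP _ _ => (hfin.mem_toFinset.1 hP).1.1).1 hsub
    exact hno P (hfin.mem_toFinset.1 hP) hJP
  refine ⟨v, fun a b hab => sub_eq_zero.1 ?_, fun y hy => ?_⟩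
  · have hab' : v * (a - b) = 0 := by
      rw [mul_sub, sub_eq_zero]
      exact hab
    refine IsReduced.eq_zero _ (mem_nilradical.1 ?_)
    rw [nilradical, Ideal.radical_eq_sInf, Ideal.mem_sInf]
    rintro P ⟨-, hP⟩
    haveI := hP
    obtain ⟨Q, hQ, hQP⟩ := Ideal.exists_minimalPrimes_le (bot_le : ⊥ ≤ P)
    exact hQP ((hQ.1.1.mem_or_mem (hab' ▸ Q.zero_mem : v * (a - b) ∈ Q)).resolve_left (hv Q hQ))
  · by_contra hyU
    have hyV : y ∈ V := X.basicOpen_le v hy
    have hP : hV.primeIdealOf ⟨y, hyV⟩ ∈ Z := by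
      show hV.fromSpec (hV.primeIdealOf ⟨y, hyV⟩) ∈ (U : Set X)ᶜ
      rw [hV.fromSpec_primeIdealOf]
      exact hyU
    rw [hJ] at hP
    have hvP : v ∈ (hV.primeIdealOf ⟨y, hyV⟩).asIdeal := hP hvJ
    have hmem : hV.primeIdealOf ⟨y, hyV⟩ ∈ hV.fromSpec ⁻¹ᵁ X.basicOpen v := by
      show hV.fromSpec (hV.primeIdealOf ⟨y, hyV⟩) ∈ X.basicOpen v
      rw [hV.fromSpec_primeIdealOf]
      exact hy
    rw [hV.fromSpec_preimage_basicOpen] at hmem
    exact hmem hvP

/-- Sections above an affine open whose `p`-th powers come from below come from below. -/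
theorem exists_app_eq_of_pow [IsLocallyNoetherian X] [IsIso (π ∣_ U)] (hU : Dense (U : Set X))
    (hU' : Dense ((π ⁻¹ᵁ U : Y.Opens) : Set Y)) {p : ℕ} {V : X.Opens} (hV : IsAffineOpen V)
    (hpc : ∀ u v a : Γ(X, V), IsSMulRegular Γ(X, V) v → u ^ p = a * v ^ p → v ∣ u)
    (b : Γ(Y, π ⁻¹ᵁ V)) (a' : Γ(X, V)) (h : π.app V a' = b ^ p) : ∃ w, π.app V w = b := by
  obtain ⟨v, hv, hvU⟩ := exists_regular U hU hV
  have hvY : ∀ c : Γ(Y, π ⁻¹ᵁ V), π.app V v * c = 0 → c = 0 := by
    intro c hc
    refine eq_zero_of_dense hU' c ?_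
    obtain ⟨c₀, hc₀⟩ := (bijective_app_of_le π U (inf_le_right : V ⊓ U ≤ U)).2
      (Y.presheaf.map (homOfLE (Scheme.Hom.preimage_mono π (inf_le_left : V ⊓ U ≤ V))).op c)
    have hvc : X.presheaf.map (homOfLE (inf_le_left : V ⊓ U ≤ V)).op v * c₀ = 0 := by
      refine (bijective_app_of_le π U (inf_le_right : V ⊓ U ≤ U)).1 ?_
      rw [map_mul, map_zero, hc₀]
      refine (congrArg (· * _) (ConcreteCategory.congr_hom
        (π.naturality (homOfLE (inf_le_left : V ⊓ U ≤ V)).op) v)).trans ?_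
      show Y.presheaf.map (homOfLE (Scheme.Hom.preimage_mono π (inf_le_left : V ⊓ U ≤ V))).op (π.app V v) * _ = 0
      rw [← map_mul, hc, map_zero]
    have hbot : X.basicOpen c₀ = ⊥ := by
      refine eq_bot_of_disjoint hV hv ((X.basicOpen_le c₀).trans inf_le_left) (eq_bot_iff.2 ?_)
      have hm := congrArg X.basicOpen hvc
      rw [Scheme.basicOpen_mul, Scheme.basicOpen_zero, Scheme.basicOpen_res] at hm
      exact fun y hy => hm.le ⟨⟨X.basicOpen_le c₀ hy.1, hy.2⟩, hy.1⟩
    exact hc₀.symm.trans (by rw [(basicOpen_eq_bot_iff c₀).1 hbot, map_zero]; rfl)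
  obtain ⟨a₀, ha₀⟩ := (bijective_app_of_le π U hvU).2
    (Y.presheaf.map (homOfLE (Scheme.Hom.preimage_mono π (X.basicOpen_le v))).op b)
  haveI := hV.isLocalization_basicOpen v
  obtain ⟨a, ⟨_, n, rfl⟩, ha⟩ := IsLocalization.exists_mk'_eq (Submonoid.powers v) a₀
  rw [IsLocalization.mk'_eq_iff_eq_mul] at ha
  have ha' : X.presheaf.map (homOfLE (X.basicOpen_le v)).op a =
      a₀ * X.presheaf.map (homOfLE (X.basicOpen_le v)).op (v ^ n) := ha
  have hab : π.app V a = π.app V (v ^ n) * b := by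
    refine sub_eq_zero.1 (hvY _ ((basicOpen_eq_bot_iff _).1 ?_))
    rw [Scheme.basicOpen_mul, eq_bot_iff]
    rintro y ⟨hy1, hy2⟩
    have hy1' : y ∈ π ⁻¹ᵁ X.basicOpen v := by
      rw [Scheme.preimage_basicOpen]
      exact hy1
    have h0 : Y.presheaf.map (homOfLE (Scheme.Hom.preimage_mono π (X.basicOpen_le v))).op
        (π.app V a - π.app V (v ^ n) * b) = 0 := by
      rw [map_sub, map_mul, sub_eq_zero, ← ha₀]
      refine (ConcreteCategory.congr_hom (π.naturality (homOfLE (X.basicOpen_le v)).op) a).symm.trans ?_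
      refine (congrArg (π.app (X.basicOpen v)) ha').trans ?_
      rw [map_mul, mul_comm]
      exact congrArg (· * _) (ConcreteCategory.congr_hom (π.naturality (homOfLE (X.basicOpen_le v)).op) (v ^ n))
    have hy' : y ∈ Y.basicOpen (Y.presheaf.map (homOfLE (Scheme.Hom.preimage_mono π (X.basicOpen_le v))).op
        (π.app V a - π.app V (v ^ n) * b)) := by
      rw [Scheme.basicOpen_res]
      exact ⟨hy1', hy2⟩
    rw [h0, Scheme.basicOpen_zero] at hy'
    exact hy'
  obtain ⟨w, hw⟩ := hpc a (v ^ n) a' (hv.pow n) (app_injective π U hU V (by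
    rw [map_mul, map_pow (f := (π.app V).hom) a p, map_pow (f := (π.app V).hom) (v ^ n) p, hab, mul_pow, h, mul_comm]))
  refine ⟨w, sub_eq_zero.1 ?_⟩
  have hn : ∀ (m : ℕ) (c : Γ(Y, π ⁻¹ᵁ V)), π.app V (v ^ m) * c = 0 → c = 0 := by
    intro m
    induction m with
    | zero => intro c hc; rwa [pow_zero, map_one, one_mul] at hc
    | succ m ih => intro c hc; rw [pow_succ, map_mul, mul_assoc] at hc; exact hvY c (ih _ hc)
  refine hn n _ ?_
  rw [mul_sub, sub_eq_zero, ← map_mul, ← hw, hab]

end Birational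

section Main

variable {k : Type u} [Field k] {p : ℕ} [Fact p.Prime] [CharP k p] [PerfectRing k p]

/-- The ordinary curves: Frobenius on `H¹` of a nodal curve and of its normalisation. -/
theorem bijective_iff_normalization {C C' : Scheme.{u}} [C.Over (Spec (CommRingCat.of k))]
    [IsProper (C ↘ Spec (CommRingCat.of k))] [AlgebraicGeometry.IsReduced C] [AlgebraicGeometry.IsReduced C']
    (hdim : topologicalKrullDim C ≤ 1) (hnod : Curv2.AtWorstNodal k C) (π : C' ⟶ C) [IsFinite π]
    (U : C.Opens) (hU : Dense (U : Set C)) (hU' : Dense ((π ⁻¹ᵁ U : C'.Opens) : Set C')) [IsIso (π ∣_ U)]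
    (φ : Coh.toAb (Coh.structureModule C) ⟶ Coh.toAb (Coh.structureModule C))
    (hφ : ∀ (V : C.Opens) (s : Γ(C, V)), (φ.hom.app (op V)).hom s = s ^ p)
    (φ' : Coh.toAb (Coh.structureModule C') ⟶ Coh.toAb (Coh.structureModule C'))
    (hφ' : ∀ (V : C'.Opens) (s : Γ(C', V)), (φ'.hom.app (op V)).hom s = s ^ p) :
    Function.Bijective (Sheaf.H.map φ 1) ↔ Function.Bijective (Sheaf.H.map φ' 1) := by
  letI : C'.Over (Spec (CommRingCat.of k)) := ⟨π ≫ (C ↘ Spec (CommRingCat.of k))⟩
  haveI : IsProper (C' ↘ Spec (CommRingCat.of k)) :=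
    inferInstanceAs (IsProper (π ≫ (C ↘ Spec (CommRingCat.of k))))
  haveI := H29RR.isNoetherian_of_proper (k := k) (X := C)
  haveI := H29RR.isNoetherian_of_proper (k := k) (X := C')
  haveI := H10Coh.finite_HH_proper k C _ (H10Coh.isCoh_structureModule' C) 1
  haveI := H10Coh.finite_HH_proper k C' _ (H10Coh.isCoh_structureModule' C') 1
  haveI := H10Coh.finite_HH_proper k C' _ (H10Coh.isCoh_structureModule' C') 0
  haveI : (Coh.structureModule C').IsQuasicoherent := (H10Coh.isCoh_structureModule' C').1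
  have hsl : IsPSemilinear (Coh.structureModule C) φ p := fun V r s => by
    refine (hφ V _).trans ?_
    exact (mul_pow (show Γ(C, V) from r) (show Γ(C, V) from s) p).trans
      (congrArg (r ^ p * ·) (hφ V (show Γ(C, V) from s)).symm)
  have hsl' : IsPSemilinear (Coh.structureModule C') φ' p := fun V r s => by
    refine (hφ' V _).trans ?_
    exact (mul_pow (show Γ(C', V) from r) (show Γ(C', V) from s) p).trans
      (congrArg (r ^ p * ·) (hφ' V (show Γ(C', V) from s)).symm)
  haveI : Mono φ' := (sheafToPresheaf _ _).mono_of_mono_map (by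
    haveI : ∀ W, Mono (((sheafToPresheaf _ _).map φ').app W) := fun W => by
      refine (AddCommGrpCat.mono_iff_injective _).2 ((injective_iff_map_eq_zero _).2 fun s hs => ?_)
      exact IsReduced.eq_zero (show Γ(C', W.unop) from s) ⟨p, (hφ' W.unop s).symm.trans hs⟩
    exact NatTrans.mono_of_mono_app _)
  let u : Coh.structureModule C ⟶ (Coh.push π).obj (Coh.structureModule C') := GenusPush.unitMap π
  have hu : ∀ (V : C.Opens) (s : Γ(C, V)), u.app V s = π.app V s := fun V s => rfl
  haveI : Mono u := Preadditive.mono_of_cancel_zero _ fun {G} z hz => by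
    refine Scheme.Modules.hom_ext _ _ fun V => ?_
    ext t
    refine app_injective π U hU V ?_
    refine (hu V _).symm.trans ?_
    refine Eq.trans ?_ (map_zero (π.app V).hom).symm
    exact congrArg (fun w : G ⟶ _ => w.app V t) hz
  have hS₀ : (ShortComplex.mk u (cokernel.π u) (cokernel.condition u)).ShortExact :=
    { exact := ShortComplex.exact_cokernel _ }
  haveI : (H10Coh.shF C).PreservesZeroMorphisms := @Functor.preservesZeroMorphisms_of_additive _ _ _ _ _ _ _
    (inferInstanceAs (SheafOfModules.toSheaf C.ringCatSheaf).Additive)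
  have hS := H10Coh.shortExact_sh hS₀
  let ψ : (H10Coh.shF C).obj ((Coh.push π).obj (Coh.structureModule C')) ⟶
      (H10Coh.shF C).obj ((Coh.push π).obj (Coh.structureModule C')) := (CohTop.push π.base).map φ'
  have hψ : ∀ (V : C.Opens) (s : Γ(C', π ⁻¹ᵁ V)), (ψ.hom.app (op V)).hom s = s ^ p := fun V s => hφ' _ s
  have hcomm : φ ≫ (H10Coh.shF C).map u = (H10Coh.shF C).map u ≫ ψ := by
    refine ObjectProperty.hom_ext _ ?_
    ext V s
    change u.app V.unop ((φ.hom.app V).hom s) = (ψ.hom.app V).hom (u.app V.unop s)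
    refine (congrArg (u.app V.unop) (hφ V.unop s)).trans ?_
    refine (hu V.unop _).trans (Eq.trans ?_ (hψ V.unop _).symm)
    exact map_pow (π.app V.unop).hom (show Γ(C, V.unop) from s) p
  let g := (H10Coh.shF C).map (cokernel.π u)
  have hw : (H10Coh.shF C).map u ≫ ψ ≫ g = 0 := by
    rw [← Category.assoc, ← hcomm, Category.assoc, ← Functor.map_comp, cokernel.condition, Functor.map_zero,
      comp_zero]
  obtain ⟨ψQ, hψQ⟩ := CokernelCofork.IsColimit.desc' hS.gIsCokernel (ψ ≫ g) hw
  let τ : ShortComplex.mk ((H10Coh.shF C).map u) g (by rw [← Functor.map_comp, cokernel.condition, Functor.map_zero]) ⟶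
      ShortComplex.mk ((H10Coh.shF C).map u) g (by rw [← Functor.map_comp, cokernel.condition, Functor.map_zero]) :=
    { τ₁ := φ, τ₂ := ψ, τ₃ := ψQ, comm₁₂ := hcomm, comm₂₃ := hψQ.symm }
  have hτψ : ∀ (V : C.Opens) (b : Γ((Coh.push π).obj (Coh.structureModule C'), V)),
      (ψQ.hom.app (op V)).hom ((cokernel.π u).app V b) = (cokernel.π u).app V ((ψ.hom.app (op V)).hom b) :=
    fun V b => by
      have h := congrArg (fun w : (H10Coh.shF C).obj ((Coh.push π).obj (Coh.structureModule C')) ⟶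
        (H10Coh.shF C).obj (cokernel u) => (w.hom.app (op V)).hom b) hψQ
      exact h
  haveI hτ3 : Mono τ.τ₃ := (sheafToPresheaf _ _).mono_of_mono_map (by
    haveI : ∀ W, Mono (((sheafToPresheaf _ _).map τ.τ₃).app W) := fun W => by
      refine (AddCommGrpCat.mono_iff_injective _).2 ((injective_iff_map_eq_zero _).2 fun q hq => ?_)
      show (show Γ(cokernel u, W.unop) from q) = 0
      refine H11Tilde.eq_of_locally _ _ fun y hy => ?_
      obtain ⟨V₁, hV₁, hyV₁, b, hb⟩ := H10Coh.exists_nhds_lift_of_epi (cokernel.π u) W.unop q y hy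
      obtain ⟨V, hV, hyV, hVV₁⟩ := exists_isAffineOpen_mem_and_subset (X := C) (x := y) (U := V₁) hyV₁
      refine ⟨V, (show V ≤ V₁ from hVV₁).trans hV₁, hyV, ?_⟩
      let b' : Γ(C', π ⁻¹ᵁ V) := ((Coh.push π).obj (Coh.structureModule C')).presheaf.map (homOfLE hVV₁).op b
      have hqV : (cokernel u).presheaf.map (homOfLE ((show V ≤ V₁ from hVV₁).trans hV₁)).op q =
          (cokernel.π u).app V b' := by
        refine Eq.trans ?_ (H11Tilde.app_map_apply (cokernel.π u) hVV₁ b).symm
        rw [hb]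
        exact ConcreteCategory.congr_hom ((cokernel u).presheaf.map_comp (homOfLE hV₁).op (homOfLE hVV₁).op) q
      have hz : (cokernel.π u).app V ((ψ.hom.app (op V)).hom b') = 0 := by
        rw [← hτψ, ← hqV]
        refine (ConcreteCategory.congr_hom
          (ψQ.hom.naturality (homOfLE ((show V ≤ V₁ from hVV₁).trans hV₁)).op) q).trans ?_
        show _ = (0 : Γ(cokernel u, V))
        exact (congrArg _ hq).trans ((cokernel u).presheaf.map (homOfLE ((show V ≤ V₁ from hVV₁).trans hV₁)).op).hom.map_zero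
      obtain ⟨a', ha'⟩ := H10Coh.exists_app_eq_of_exact hS₀ V _ hz
      obtain ⟨w, hw'⟩ := exists_app_eq_of_pow π U hU hU' hV
        (H29Node.dvd_of_pow_eq_mul_pow (k := k) hdim hnod hV) b' a'
        ((hu V a').symm.trans (ha'.trans (hψ V b')))
      rw [hqV, map_zero]
      refine Eq.trans (congrArg ((cokernel.π u).app V) (((hu V w).trans hw').symm)) ?_
      exact congrArg (fun m : Coh.structureModule C ⟶ cokernel u => m.app V w) (cokernel.condition u)
    exact NatTrans.mono_of_mono_app _)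
  have he : ∀ n, Function.Bijective (H10Coh.edgeAb π.base (Coh.toAb (Coh.structureModule C')) n) := fun n => by
    haveI : HasInjectiveResolutions C'.Modules := by
      haveI := H10Coh.enoughInjMod C'
      infer_instance
    have h := H10Coh.bijective_pushEdge π (Coh.structureModule C') (H10Coh.isAcyclic_push_of_isAffineHom π _) n
    rw [show ⇑(CohPull.pushEdge π (Coh.structureModule C') n) =
      ⇑(H10Coh.edgeAb π.base (H10Coh.sh (Coh.structureModule C')) n) from
        funext (H10Coh.pushEdge_eq π (Coh.structureModule C') n)] at h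
    exact h
  have hconj : ∀ n, Function.Bijective (Sheaf.H.map ψ n) ↔ Function.Bijective (Sheaf.H.map φ' n) := fun n => by
    have hn : (H10Coh.edgeAb π.base (Coh.toAb (Coh.structureModule C')) n) ∘ (Sheaf.H.map ψ n) =
        (Sheaf.H.map φ' n) ∘ (H10Coh.edgeAb π.base (Coh.toAb (Coh.structureModule C')) n) :=
      funext fun x => H10Coh.edgeAb_naturality π.base φ' n x
    have h1 := (he n).of_comp_iff' (f := H10Coh.edgeAb π.base (Coh.toAb (Coh.structureModule C')) n) (Sheaf.H.map ψ n)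
    refine h1.symm.trans (Iff.trans (iff_of_eq (congrArg Function.Bijective hn)) ?_)
    exact Function.Bijective.of_comp_iff _ (he n)
  have hsurjconj : ∀ n, Function.Surjective (Sheaf.H.map ψ n) → Function.Surjective (Sheaf.H.map φ' n) :=
    fun n h y => by
      obtain ⟨x, rfl⟩ := (he n).2 y
      obtain ⟨z, rfl⟩ := h x
      exact ⟨_, (H10Coh.edgeAb_naturality π.base φ' n z).symm⟩
  have h0 : Function.Surjective (Sheaf.H.map τ.τ₂ 0) :=
    ((hconj 0).2 (bijective_H_of_injective (k := k) _ φ' hsl' 0 (injective_H0 φ'))).2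
  haveI : IsClosedImmersion (π ∣_ U) := inferInstance
  rw [← hconj 1]
  exact @bijective_iff _ _ hS τ hτ3 (GenusPush.surjective_hhlin_unitMap (k := k) hdim π U hU) h0
    (bijective_H_of_injective (k := k) _ φ hsl 1)
    (fun h => (hconj 1).2 (bijective_H_of_surjective (k := k) _ φ' hsl' 1 (hsurjconj 1 h)))

end Main

end Groth.Agent.H29Curve.FrobNormalization
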